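import Mathlib

/-!
# Symplectic matrices acting on vectors, the elements used for the slim amalgam

Owner: helper64.
-/

set_option autoImplicit false
set_option linter.unusedSectionVars false

open Matrix

namespace Cfsg.Agent.Lib.SpAmalgam

/-- The symplectic group on `2n` coordinates. -/
abbrev SpG (F : Type*) [Field F] (n : ℕ) := ↥(Matrix.symplecticGroup (Fin n) F)

/-- Column vectors. -/
abbrev Vec (F : Type*) (n : ℕ) := Fin n ⊕ Fin n → F

variable {F : Type*} [Field F] {n : ℕ}

/-- The action on column vectors. -/
def act (g : SpG F n) (v : Vec F n) : Vec F n := (g : Matrix (Fin n ⊕ Fin n) (Fin n ⊕ Fin n) F).mulVec v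

theorem act_one (v : Vec F n) : act (1 : SpG F n) v = v := Matrix.one_mulVec v

theorem act_mul (g h : SpG F n) (v : Vec F n) : act (g * h) v = act g (act h v) :=
  (Matrix.mulVec_mulVec _ _ _).symm

theorem act_add (g : SpG F n) (u v : Vec F n) : act g (u + v) = act g u + act g v := Matrix.mulVec_add _ _ _

theorem act_smul (g : SpG F n) (c : F) (v : Vec F n) : act g (c • v) = c • act g v := Matrix.mulVec_smul _ _ _

theorem act_zero (g : SpG F n) : act g (0 : Vec F n) = 0 := Matrix.mulVec_zero _

theorem act_neg (g : SpG F n) (v : Vec F n) : act g (-v) = -act g v := Matrix.mulVec_neg _ _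

theorem act_sub (g : SpG F n) (u v : Vec F n) : act g (u - v) = act g u - act g v := Matrix.mulVec_sub _ _ _

theorem act_ext {g h : SpG F n} (H : ∀ v, act g v = act h v) : g = h := by
  refine Subtype.ext (Matrix.ext fun i j => ?_)
  have := congrFun (H (Pi.single j 1)) i
  simpa [act, Matrix.mulVec_single] using this

theorem act_inv_eq {g : SpG F n} {u v : Vec F n} (h : act g u = v) : act g⁻¹ v = u := by
  rw [← h, ← act_mul, inv_mul_cancel, act_one]

theorem act_inv_act (g : SpG F n) (v : Vec F n) : act g⁻¹ (act g v) = v := act_inv_eq rfl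

theorem act_act_inv (g : SpG F n) (v : Vec F n) : act g (act g⁻¹ v) = v := by
  rw [← act_mul, mul_inv_cancel, act_one]

/-- The alternating form. -/
def om (u v : Vec F n) : F := ∑ l, (u (Sum.inl l) * v (Sum.inr l) - u (Sum.inr l) * v (Sum.inl l))

theorem om_add_left (u u' v : Vec F n) : om (u + u') v = om u v + om u' v := by
  simp only [om, ← Finset.sum_add_distrib, Pi.add_apply]
  exact Finset.sum_congr rfl fun l _ => by ring

theorem om_add_right (u v v' : Vec F n) : om u (v + v') = om u v + om u v' := by
  simp only [om, ← Finset.sum_add_distrib, Pi.add_apply]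
  exact Finset.sum_congr rfl fun l _ => by ring

theorem om_smul_left (c : F) (u v : Vec F n) : om (c • u) v = c * om u v := by
  simp only [om, Finset.mul_sum, Pi.smul_apply, smul_eq_mul]
  exact Finset.sum_congr rfl fun l _ => by ring

theorem om_smul_right (c : F) (u v : Vec F n) : om u (c • v) = c * om u v := by
  simp only [om, Finset.mul_sum, Pi.smul_apply, smul_eq_mul]
  exact Finset.sum_congr rfl fun l _ => by ring

theorem om_self (u : Vec F n) : om u u = 0 := Finset.sum_eq_zero fun l _ => by ring

theorem om_swap (u v : Vec F n) : om v u = -om u v := by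
  simp only [om, ← Finset.sum_neg_distrib]
  exact Finset.sum_congr rfl fun l _ => by ring

theorem om_zero_left (v : Vec F n) : om (0 : Vec F n) v = 0 := by simp [om]

theorem om_zero_right (v : Vec F n) : om v (0 : Vec F n) = 0 := by simp [om]

theorem om_neg_left (u v : Vec F n) : om (-u) v = -om u v := by
  rw [← neg_one_smul F u, om_smul_left, neg_one_mul]

theorem om_neg_right (u v : Vec F n) : om u (-v) = -om u v := by
  rw [← neg_one_smul F v, om_smul_right, neg_one_mul]

theorem om_sub_left (u u' v : Vec F n) : om (u - u') v = om u v - om u' v := by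
  rw [sub_eq_add_neg, om_add_left, om_neg_left, sub_eq_add_neg]

theorem om_sub_right (u v v' : Vec F n) : om u (v - v') = om u v - om u v' := by
  rw [sub_eq_add_neg, om_add_right, om_neg_right, sub_eq_add_neg]

theorem dot_J (u v : Vec F n) : u ⬝ᵥ (Matrix.J (Fin n) F *ᵥ v) = -om u v := by
  simp only [Matrix.J, Matrix.fromBlocks_mulVec, dotProduct, Fintype.sum_sum_type, om,
    ← Finset.sum_neg_distrib, Sum.elim_inl, Sum.elim_inr, zero_mulVec, one_mulVec, neg_mulVec, zero_add,
    add_zero, Pi.neg_apply, Function.comp_apply, ← Finset.sum_add_distrib]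
  exact Finset.sum_congr rfl fun l _ => by ring

theorem om_act (g : SpG F n) (u v : Vec F n) : om (act g u) (act g v) = om u v := by
  have h := SymplecticGroup.mem_iff'.1 g.2
  rw [← neg_inj, ← dot_J, ← dot_J]
  simp only [act]
  rw [Matrix.dotProduct_mulVec, Matrix.vecMul_mulVec, ← Matrix.dotProduct_mulVec, Matrix.mulVec_mulVec]
  rw [h]

/-- The symplectic matrix of a linear map preserving the form. -/
noncomputable def mkSp (f : Vec F n →ₗ[F] Vec F n) (h : ∀ u v, om (f u) (f v) = om u v) : SpG F n :=
  ⟨LinearMap.toMatrix' f, SymplecticGroup.mem_iff'.2 (Matrix.ext fun i j => by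
    have h1 : ∀ M : Matrix (Fin n ⊕ Fin n) (Fin n ⊕ Fin n) F,
        M i j = (Pi.single i 1 : Vec F n) ⬝ᵥ (M *ᵥ Pi.single j 1) := fun M => by
      simp [Matrix.mulVec_single]
    refine (h1 _).trans (Eq.trans ?_ (h1 (Matrix.J (Fin n) F)).symm)
    rw [dot_J, ← h, ← dot_J, Matrix.mul_assoc, ← Matrix.mulVec_mulVec,
      ← Matrix.mulVec_mulVec, LinearMap.toMatrix'_mulVec, Matrix.dotProduct_mulVec, Matrix.vecMul_transpose,
      LinearMap.toMatrix'_mulVec])⟩

theorem act_mkSp (f : Vec F n →ₗ[F] Vec F n) (h) (v : Vec F n) : act (mkSp f h) v = f v :=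
  LinearMap.toMatrix'_mulVec f v

/-- The first half of the basis. -/
def ee (k : Fin n) : Vec F n := Pi.single (Sum.inl k) 1

/-- The second half of the basis. -/
def ff (k : Fin n) : Vec F n := Pi.single (Sum.inr k) 1

@[simp] theorem ee_inl (k l : Fin n) : (ee k : Vec F n) (Sum.inl l) = if l = k then 1 else 0 := by
  simp [ee, Pi.single_apply]

@[simp] theorem ee_inr (k l : Fin n) : (ee k : Vec F n) (Sum.inr l) = 0 := by simp [ee, Pi.single_apply]

@[simp] theorem ff_inl (k l : Fin n) : (ff k : Vec F n) (Sum.inl l) = 0 := by simp [ff, Pi.single_apply]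

@[simp] theorem ff_inr (k l : Fin n) : (ff k : Vec F n) (Sum.inr l) = if l = k then 1 else 0 := by
  simp [ff, Pi.single_apply]

@[simp] theorem om_ee_left (k : Fin n) (v : Vec F n) : om (ee k) v = v (Sum.inr k) := by simp [om]

@[simp] theorem om_ff_left (k : Fin n) (v : Vec F n) : om (ff k) v = -v (Sum.inl k) := by simp [om]

@[simp] theorem om_ee_right (k : Fin n) (v : Vec F n) : om v (ee k) = -v (Sum.inr k) := by
  rw [om_swap, om_ee_left]

@[simp] theorem om_ff_right (k : Fin n) (v : Vec F n) : om v (ff k) = v (Sum.inl k) := by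
  rw [om_swap, om_ff_left, neg_neg]

/-- The linear map behind a Siegel element. -/
def qqLin (e x : Vec F n) (z : F) : Vec F n →ₗ[F] Vec F n where
  toFun v := v + om e v • x + (om x v + z * om e v) • e
  map_add' u v := by
    funext i
    simp only [om_add_right, Pi.add_apply, Pi.smul_apply, smul_eq_mul]
    ring
  map_smul' c v := by
    funext i
    simp only [om_smul_right, Pi.add_apply, Pi.smul_apply, smul_eq_mul, RingHom.id_apply]
    ring

theorem qqLin_om {e x : Vec F n} (z : F) (h : om e x = 0) (u v : Vec F n) :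
    om (qqLin e x z u) (qqLin e x z v) = om u v := by
  have h' : om x e = 0 := by rw [om_swap, h, neg_zero]
  show om (u + om e u • x + (om x u + z * om e u) • e) (v + om e v • x + (om x v + z * om e v) • e) = _
  simp only [om_add_left, om_add_right, om_smul_left, om_smul_right, om_self, h, h', om_swap e u, om_swap x u]
  ring

/-- The Siegel element of the vectors `e`, `x` and the scalar `z`. -/
noncomputable def qq (e x : Vec F n) (z : F) : SpG F n := by
  classical exact if h : om e x = 0 then mkSp (qqLin e x z) (qqLin_om z h) else 1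

theorem act_qq {e x : Vec F n} (z : F) (h : om e x = 0) (v : Vec F n) :
    act (qq e x z) v = v + om e v • x + (om x v + z * om e v) • e := by
  unfold qq
  rw [dif_pos h, act_mkSp]
  rfl

theorem qq_mul {e x y : Vec F n} (z w : F) (hx : om e x = 0) (hy : om e y = 0) :
    qq e x z * qq e y w = qq e (x + y) (z + w + om x y) := by
  refine act_ext fun v => ?_
  have h' : om x e = 0 := by rw [om_swap, hx, neg_zero]
  rw [act_mul, act_qq z hx, act_qq w hy, act_qq _ (by rw [om_add_right, hx, hy, add_zero])]
  funext i
  simp only [om_add_left, om_add_right, om_smul_right, om_self, hx, hy, h', Pi.add_apply, Pi.smul_apply, smul_eq_mul]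
  ring

theorem qq_zero (e : Vec F n) : qq e 0 0 = 1 := by
  refine act_ext fun v => ?_
  rw [act_qq 0 (om_zero_right e), act_one]
  funext i
  simp [om_zero_left]

theorem qq_inv {e x : Vec F n} (z : F) (hx : om e x = 0) : (qq e x z)⁻¹ = qq e (-x) (-z) := by
  refine inv_eq_of_mul_eq_one_right ?_
  rw [qq_mul z (-z) hx (by rw [om_neg_right, hx, neg_zero]), add_neg_cancel, add_neg_cancel, zero_add,
    om_neg_right, om_self, neg_zero, qq_zero]

theorem conj_qq (g : SpG F n) {e x : Vec F n} (z : F) (h : om e x = 0) :
    g * qq e x z = qq (act g e) (act g x) z * g := by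
  refine act_ext fun v => ?_
  rw [act_mul, act_mul, act_qq z h, act_qq z (by rw [om_act, h]), om_act, om_act]
  simp only [act_add, act_smul]

/-- The linear map of a `2 × 2` block on the `k`-th hyperbolic plane. -/
def slLin (k : Fin n) (a b c d : F) : Vec F n →ₗ[F] Vec F n where
  toFun v := v + ((a - 1) * v (Sum.inl k) + b * v (Sum.inr k)) • ee k
    + (c * v (Sum.inl k) + (d - 1) * v (Sum.inr k)) • ff k
  map_add' u v := by
    funext i
    simp only [Pi.add_apply, Pi.smul_apply, smul_eq_mul]
    ring
  map_smul' r v := by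
    funext i
    simp only [Pi.add_apply, Pi.smul_apply, smul_eq_mul, RingHom.id_apply]
    ring

theorem slLin_om (k : Fin n) {a b c d : F} (h : a * d - b * c = 1) (u v : Vec F n) :
    om (slLin k a b c d u) (slLin k a b c d v) = om u v := by
  show om (u + _ • ee k + _ • ff k) (v + _ • ee k + _ • ff k) = _
  simp only [om_add_left, om_add_right, om_smul_left, om_smul_right, om_ee_left, om_ff_left, om_ee_right,
    om_ff_right, ee_inr, ff_inr, ee_inl, ff_inl, if_true, Pi.add_apply, Pi.smul_apply, smul_eq_mul]
  linear_combination (u (Sum.inl k) * v (Sum.inr k) - u (Sum.inr k) * v (Sum.inl k)) * h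

/-- The element acting by `(a b; c d)` on the `k`-th hyperbolic plane. -/
noncomputable def sl (k : Fin n) (a b c d : F) : SpG F n := by
  classical exact if h : a * d - b * c = 1 then mkSp (slLin k a b c d) (slLin_om k h) else 1

theorem act_sl (k : Fin n) {a b c d : F} (h : a * d - b * c = 1) (v : Vec F n) :
    act (sl k a b c d) v = v + ((a - 1) * v (Sum.inl k) + b * v (Sum.inr k)) • ee k
      + (c * v (Sum.inl k) + (d - 1) * v (Sum.inr k)) • ff k := by
  unfold sl
  rw [dif_pos h, act_mkSp]
  rfl

end Cfsg.Agent.Lib.SpAmalgam
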