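import Cfsg.Agent.Lib.SpAmalgam.Heis

/-!
# The stabilizer of `ee j` and the open cell

Owner: helper64.
-/

set_option autoImplicit false
set_option linter.unusedSectionVars false

namespace Cfsg.Agent.Lib.SpAmalgam

variable {F : Type*} [Field F] {n : ℕ} {H : Type*} [Group H] (A : Amal F n H) {j : Fin n} {P' : SpG F n → H}

/-- The part of a vector outside the `j`-th plane. -/
def xs (j : Fin n) (v : Vec F n) : Vec F n := v - v (Sum.inl j) • ee j - v (Sum.inr j) • ff j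

theorem xs_inV {v : Vec F n} (hv : InV (j : ℕ) v) : InV ((j : ℕ) + 1) (xs j v) := Gk_split hv

theorem InV.coords {x : Vec F n} (hx : InV ((j : ℕ) + 1) x) : x (Sum.inl j) = 0 ∧ x (Sum.inr j) = 0 :=
  hx j (Nat.lt_succ_self _)

theorem vec_eq (j : Fin n) (v : Vec F n) : v = xs j v + v (Sum.inl j) • ee j + v (Sum.inr j) • ff j := by
  unfold xs; abel

theorem xs_of_inV {x : Vec F n} (hx : InV ((j : ℕ) + 1) x) : xs j x = x := by
  simp [xs, hx.coords]

theorem act_qq_ee {x : Vec F n} (hx : InV ((j : ℕ) + 1) x) (z : F) : act (qq (ee j) x z) (ee j) = ee j := by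
  rw [act_qq z (om_ee_inV hx), om_self, om_inV_ee hx]
  simp

theorem act_qq_ff {x : Vec F n} (hx : InV ((j : ℕ) + 1) x) (z : F) :
    act (qq (ee j) x z) (ff j) = ff j + x + z • ee j := by
  rw [act_qq z (om_ee_inV hx), om_inV_ff hx]
  simp

theorem qq_mem_Gk' {x : Vec F n} (hx : InV ((j : ℕ) + 1) x) (z : F) : qq (ee j) x z ∈ Gk (F := F) (j : ℕ) :=
  qq_mem_Gk _ (inV_ee le_rfl) (hx.mono (Nat.le_succ _)) (om_ee_inV hx)

theorem inr_act {g : SpG F n} (hg : act g (ee j) = ee j) (v : Vec F n) : act g v (Sum.inr j) = v (Sum.inr j) := by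
  rw [← om_ee_left j (act g v)]
  conv_lhs => rw [← hg]
  rw [om_act, om_ee_left]

theorem inl_act {g : SpG F n} (hg : act g (ff j) = ff j) (v : Vec F n) : act g v (Sum.inl j) = v (Sum.inl j) := by
  rw [← om_ff_right j (act g v)]
  conv_lhs => rw [← hg]
  rw [om_act, om_ff_right]

/-- Elements fixing `ee j`, mapped by the two given maps. -/
noncomputable def phi0 (P' : SpG F n → H) (j : Fin n) (p : SpG F n) : H :=
  qh A P' j (xs j (act p (ff j))) (act p (ff j) (Sum.inl j)) *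
    P' ((qq (ee j) (xs j (act p (ff j))) (act p (ff j) (Sum.inl j)))⁻¹ * p)

theorem phi0_eq {x : Vec F n} (hx : InV ((j : ℕ) + 1) x) (z : F) {g : SpG F n} (hg : g ∈ Gk ((j : ℕ) + 1)) :
    phi0 A P' j (qq (ee j) x z * g) = qh A P' j x z * P' g := by
  have e : act (qq (ee j) x z * g) (ff j) = ff j + x + z • ee j := by
    rw [act_mul, (mem_Gk_succ.1 hg).2.2, act_qq_ff hx]
  have e1 : (ff j + x + z • ee j : Vec F n) (Sum.inl j) = z := by simp [hx.coords]
  have e2 : xs j (ff j + x + z • ee j : Vec F n) = x := by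
    simp only [xs, e1]
    simp [hx.coords]
  unfold phi0
  rw [e, e1, e2, inv_mul_cancel_left]

theorem decomp_stab {p : SpG F n} (hp : p ∈ Gk (j : ℕ)) (he : act p (ee j) = ee j) :
    ∃ x z g, InV ((j : ℕ) + 1) x ∧ g ∈ Gk ((j : ℕ) + 1) ∧ p = qq (ee j) x z * g := by
  set u := act p (ff j) with hu
  have hu1 : u (Sum.inr j) = 1 := by rw [hu, inr_act he]; simp
  have hxV : InV ((j : ℕ) + 1) (xs j u) := xs_inV ((inV_ff le_rfl).image hp)
  set q := qq (ee j) (xs j u) (u (Sum.inl j)) with hq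
  have hqf : act q (ff j) = u := by
    rw [hq, act_qq_ff hxV]
    conv_rhs => rw [vec_eq j u, hu1, one_smul]
    abel
  refine ⟨xs j u, u (Sum.inl j), q⁻¹ * p, hxV, mem_Gk_succ.2 ⟨mul_mem (inv_mem (qq_mem_Gk' hxV _)) hp,
    ?_, ?_⟩, (mul_inv_cancel_left _ _).symm⟩
  · rw [act_mul, he]; exact act_inv_eq (act_qq_ee hxV _)
  · rw [act_mul, ← hu]; exact act_inv_eq hqf

/-- Elements fixing everything outside the planes `j`, `j + 1` in a fixed way. -/
def Nx (j : Fin n) : Subgroup (SpG F n) where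
  carrier := {g | (∀ l : Fin n, l ≠ j → act g (ee l) = ee l) ∧
    ∀ l : Fin n, (l : ℕ) ≠ j → (l : ℕ) ≠ (j : ℕ) + 1 → act g (ff l) = ff l}
  one_mem' := ⟨fun _ _ => act_one _, fun _ _ _ => act_one _⟩
  mul_mem' := fun {g h} hg hh => ⟨fun l hl => by rw [act_mul, hh.1 l hl, hg.1 l hl],
    fun l h1 h2 => by rw [act_mul, hh.2 l h1 h2, hg.2 l h1 h2]⟩
  inv_mem' := fun {g} hg => ⟨fun l hl => act_inv_eq (hg.1 l hl), fun l h1 h2 => act_inv_eq (hg.2 l h1 h2)⟩

theorem sup_le_Nx (j : Fin n) : (Mx j ⊔ Sx j : Subgroup (SpG F n)) ≤ Nx j :=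
  sup_le (fun _ hg => ⟨fun l _ => hg.1 l, hg.2⟩)
    fun _ hg => ⟨fun l hl => (hg l hl).1, fun l h1 _ => (hg l fun e => h1 (by rw [e])).2⟩

theorem mem_Mx_of_Nx {g : SpG F n} (hg : g ∈ Nx j) (he : act g (ee j) = ee j) : g ∈ Mx j :=
  ⟨fun l => by
    by_cases e : l = j
    · exact e ▸ he
    · exact hg.1 l e, hg.2⟩

theorem sB_ee (j : Fin n) {c : F} (hc : c ≠ 0) : act (sl j 0 (-c⁻¹) c 0) (ee j) = c • ff j := by
  rw [act_sl j (by field_simp; ring)]
  simp

theorem sB_mem (j : Fin n) {c : F} (hc : c ≠ 0) : sl j 0 (-c⁻¹) c 0 ∈ Sx j := sl_mem j (by field_simp; ring)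

theorem cell {i : Fin n} (hi : (i : ℕ) = (j : ℕ) + 1) {k : SpG F n} (hk : k ∈ Mx j ⊔ Sx j)
    (hc : act k (ee j) (Sum.inr j) ≠ 0) :
    ∃ b z : F, ∃ s ∈ Sx j, ∃ m ∈ Mx j,
      k = qq (ee j) (b • ee i) z * s * m ∧ act s (ee j) (Sum.inr j) ≠ 0 := by
  set v := act k (ee j) with hv
  set c := v (Sum.inr j) with hcdef
  have hkN := sup_le_Nx j hk
  have hij : i ≠ j := fun e => by rw [e] at hi; omega
  have ev : v = v (Sum.inl j) • ee j + v (Sum.inl i) • ee i + c • ff j := by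
    funext l
    rcases l with l | l
    · by_cases e1 : l = j
      · subst e1; simp [hij.symm]
      · by_cases e2 : l = i
        · subst e2; simp [e1]
        · have h2 : (l : ℕ) ≠ (j : ℕ) + 1 := fun e => e2 (Fin.ext (e.trans hi.symm))
          have h1 : (l : ℕ) ≠ j := fun e => e1 (Fin.ext e)
          have : v (Sum.inl l) = 0 := by
            rw [← om_ff_right l v, hv, ← hkN.2 l h1 h2, om_act]
            simp [e1]
          simp [this, e1, e2]
    · by_cases e1 : l = j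
      · subst e1; simp [c]
      · have : v (Sum.inr l) = 0 := by
          rw [← om_ee_left l v, hv, ← hkN.1 l e1, om_act]
          simp
        simp [this, e1]
  set b := c⁻¹ * v (Sum.inl i) with hb
  set z := c⁻¹ * v (Sum.inl j) with hz
  set s := sl j 0 (-c⁻¹) c 0 with hs
  have hm1 : qq (ee j) (b • ee i) z ∈ Mx j := qq_mem_Mx hi b z
  have hbV : InV ((j : ℕ) + 1) (b • ee i : Vec F n) := (inV_ee hi.ge).smul b
  refine ⟨b, z, s, sB_mem j hc, (qq (ee j) (b • ee i) z * s)⁻¹ * k, ?_, (mul_inv_cancel_left _ _).symm, ?_⟩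
  · refine mem_Mx_of_Nx (mul_mem (inv_mem (sup_le_Nx j ?_)) hkN) ?_
    · exact mul_mem (Subgroup.mem_sup_left hm1) (Subgroup.mem_sup_right (sB_mem j hc))
    · rw [act_mul, ← hv]
      refine act_inv_eq ?_
      rw [act_mul, sB_ee j hc, act_smul, act_qq_ff hbV]
      conv_rhs => rw [ev]
      simp only [smul_add, smul_smul, hb, hz, mul_inv_cancel_left₀ hc]
      abel
  · rw [sB_ee j hc]
    simpa using hc

variable {A} (hP : Good A ((j : ℕ) + 1) P')
include hP

theorem phi0_Gk {g : SpG F n} (hg : g ∈ Gk ((j : ℕ) + 1)) : phi0 A P' j g = P' g := by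
  conv_lhs => rw [← one_mul g, ← qq_zero (ee j)]
  rw [phi0_eq A (inV_zero _) 0 hg, qh_zero, qq_zero, (A.homS j).one, one_mul]

theorem phi0_qq {x : Vec F n} (hx : InV ((j : ℕ) + 1) x) (z : F) :
    phi0 A P' j (qq (ee j) x z) = qh A P' j x z := by
  conv_lhs => rw [← mul_one (qq (ee j) x z)]
  rw [phi0_eq A hx z (one_mem _), hP.hom.one, mul_one]

theorem phi0_mul (hF : ∃ a : F, a ≠ 0 ∧ a ≠ 1) {p q : SpG F n} (hp : p ∈ Gk (j : ℕ))
    (hpe : act p (ee j) = ee j) (hq : q ∈ Gk (j : ℕ)) (hqe : act q (ee j) = ee j) :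
    phi0 A P' j (p * q) = phi0 A P' j p * phi0 A P' j q := by
  obtain ⟨x, z, g, hx, hg, rfl⟩ := decomp_stab hp hpe
  obtain ⟨y, w, g', hy, hg', rfl⟩ := decomp_stab hq hqe
  have hy' : InV ((j : ℕ) + 1) (act g y) := hy.image hg
  have e : qq (ee j) x z * g * (qq (ee j) y w * g') =
      qq (ee j) (x + act g y) (z + w + om x (act g y)) * (g * g') := by
    rw [← qq_mul z w (om_ee_inV hx) (om_ee_inV hy'), ← mul_assoc, mul_assoc _ g, conj_qq_ee hg hy w]
    group
  rw [e, phi0_eq A (hx.add hy') _ (mul_mem hg hg'), phi0_eq A hx z hg, phi0_eq A hy w hg',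
    ← qh_mul hP hF hx hy', qh_conj hP hg hy, hP.hom _ hg _ hg']
  group

theorem phi0_inv (hF : ∃ a : F, a ≠ 0 ∧ a ≠ 1) {p : SpG F n} (hp : p ∈ Gk (j : ℕ))
    (hpe : act p (ee j) = ee j) : phi0 A P' j p⁻¹ = (phi0 A P' j p)⁻¹ := by
  refine eq_inv_of_mul_eq_one_left ?_
  rw [← phi0_mul hP hF (inv_mem hp) (act_inv_eq hpe) hp hpe, inv_mul_cancel, phi0_Gk hP (one_mem _), hP.hom.one]

theorem phi0_Sx {s : SpG F n} (hs : s ∈ Sx j) (he : act s (ee j) = ee j) : phi0 A P' j s = A.sh j s := by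
  have hf : act s (ff j) (Sum.inr j) = 1 := by rw [inr_act he]; simp
  have e : s = qq (ee j) 0 (act s (ff j) (Sum.inl j)) := by
    refine (inv_mul_eq_one.1 (eq_one_of_fix fun l => ?_)).symm
    set q := qq (ee j) (0 : Vec F n) (act s (ff j) (Sum.inl j)) with hq
    by_cases hl : l = j
    · subst hl
      constructor
      · rw [act_mul, he]; exact act_inv_eq (act_qq_ee (inV_zero _) _)
      · have hqf : act q (ff l) = act s (ff l) := by
          rw [hq, act_qq_ff (inV_zero _)]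
          conv_rhs => rw [Sx_act_ff hs, hf, one_smul]
          abel
        rw [act_mul, ← hqf, act_inv_act]
    · exact (mul_mem (inv_mem (qq_ee_mem_Sx j _)) hs) l hl
  rw [e, phi0_qq hP (inV_zero _), qh_zero]

theorem phi0_Mx (hF : ∃ a : F, a ≠ 0 ∧ a ≠ 1) (hj : (j : ℕ) + 1 < n) {m : SpG F n} (hm : m ∈ Mx j) :
    phi0 A P' j m = A.mh j m := by
  set i : Fin n := ⟨(j : ℕ) + 1, hj⟩ with hidef
  have hij : i ≠ j := fun e => by simpa [hidef] using congrArg Fin.val e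
  obtain ⟨x, z, g, hx, hg, rfl⟩ := decomp_stab (Mx_le_Gk le_rfl hm) (hm.1 j)
  have hx' : x = x (Sum.inl i) • ee i := by
    have e : act (qq (ee j) x z * g) (ff j) = ff j + x + z • ee j := by
      rw [act_mul, (mem_Gk_succ.1 hg).2.2, act_qq_ff hx]
    funext l
    rcases l with l | l
    · by_cases e1 : l = j
      · subst e1; simp [hx.coords, hij.symm]
      · by_cases e2 : l = i
        · subst e2; simp
        · have h1 : (l : ℕ) ≠ j := fun h => e1 (Fin.ext h)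
          have h2 : (l : ℕ) ≠ (j : ℕ) + 1 := fun h => e2 (Fin.ext h)
          have : (ff j + x + z • ee j : Vec F n) (Sum.inl l) = 0 := by
            rw [← om_ff_right l (ff j + x + z • ee j : Vec F n), ← e, ← hm.2 l h1 h2, om_act]
            simp
          simp [e1] at this
          simp [this, e2]
    · by_cases e1 : l = j
      · subst e1; simp [hx.coords]
      · have : (ff j + x + z • ee j : Vec F n) (Sum.inr l) = 0 := by
          rw [← om_ee_left l (ff j + x + z • ee j : Vec F n), ← e, ← hm.1 l, om_act]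
          simp [Ne.symm e1, e1]
        simp [e1] at this
        simp [this]
  set b := x (Sum.inl i)
  obtain ⟨Ψ, -, h1, -, hpl⟩ := exists_plane hP (i := i) rfl
  have hq : qq (ee j) x z ∈ Mx j := hx'.symm ▸ qq_mem_Mx rfl b z
  have hg' : g ∈ Mx j := by simpa using mul_mem (inv_mem hq) hm
  have hgS : g ∈ Sx i := by
    intro l hl
    refine ⟨hg'.1 l, ?_⟩
    by_cases e1 : l = j
    · exact e1 ▸ (mem_Gk_succ.1 hg).2.2
    · exact hg'.2 l (fun h => e1 (Fin.ext h)) fun h => hl (Fin.ext h)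
  rw [phi0_eq A hx z hg, hP.onS i le_rfl g hgS, A.agree hj hg' hgS, A.homM j hj _ hq _ hg',
    (hpl x z (fun l hl => by rw [hx']; simp [hl])).2, h1 _ hq]

omit hP in
/-- The map on the open cell. -/
noncomputable def phiB (A : Amal F n H) (P' : SpG F n → H) (j : Fin n) (g : SpG F n) : H :=
  let v := act g (ee j)
  let c := v (Sum.inr j)
  let q := qq (ee j) (c⁻¹ • xs j v) (c⁻¹ * v (Sum.inl j))
  qh A P' j (c⁻¹ • xs j v) (c⁻¹ * v (Sum.inl j)) * A.sh j (sl j 0 (-c⁻¹) c 0) *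
    phi0 A P' j ((q * sl j 0 (-c⁻¹) c 0)⁻¹ * g)

theorem phiB_eq (hF : ∃ a : F, a ≠ 0 ∧ a ≠ 1) {x : Vec F n} (hx : InV ((j : ℕ) + 1) x) (z : F)
    {s : SpG F n} (hs : s ∈ Sx j) (hc : act s (ee j) (Sum.inr j) ≠ 0) {p : SpG F n} (hp : p ∈ Gk (j : ℕ))
    (hpe : act p (ee j) = ee j) :
    phiB A P' j (qq (ee j) x z * s * p) = qh A P' j x z * A.sh j s * phi0 A P' j p := by
  set a := act s (ee j) (Sum.inl j) with ha
  set c := act s (ee j) (Sum.inr j) with hcd
  have hse : act s (ee j) = a • ee j + c • ff j := Sx_act_ee hs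
  have hg : act (qq (ee j) x z * s * p) (ee j) = (a + c * z) • ee j + c • x + c • ff j := by
    rw [act_mul, hpe, act_mul, hse, act_add, act_smul, act_smul, act_qq_ee hx, act_qq_ff hx]
    simp only [smul_add, smul_smul, add_smul]
    abel
  have h1 : ((a + c * z) • ee j + c • x + c • ff j : Vec F n) (Sum.inr j) = c := by simp [hx.coords]
  have h2 : ((a + c * z) • ee j + c • x + c • ff j : Vec F n) (Sum.inl j) = a + c * z := by simp [hx.coords]
  have h3 : c⁻¹ • xs j ((a + c * z) • ee j + c • x + c • ff j : Vec F n) = x := by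
    simp only [xs, h1, h2]
    rw [show (a + c * z) • ee j + c • x + c • ff j - (a + c * z) • ee j - c • ff j = c • x by abel,
      inv_smul_smul₀ hc]
  set z' := c⁻¹ * (a + c * z) with hz'
  set sB := sl j 0 (-c⁻¹) c 0 with hsB
  set p' := (qq (ee j) 0 (c⁻¹ * a) * sB)⁻¹ * s with hp'
  have hsBm : sB ∈ Sx j := sB_mem j hc
  have hp'S : p' ∈ Sx j := mul_mem (inv_mem (mul_mem (qq_ee_mem_Sx j _) hsBm)) hs
  have hp'e : act p' (ee j) = ee j := by
    rw [hp', act_mul, hse]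
    refine act_inv_eq ?_
    rw [act_mul, hsB, sB_ee j hc, act_smul, act_qq_ff (inV_zero _)]
    simp only [smul_add, smul_smul, smul_zero, mul_inv_cancel_left₀ hc]
    abel
  have hzz : z' = z + c⁻¹ * a := by rw [hz']; field_simp; ring
  have hq' : qq (ee j) x z' = qq (ee j) x z * qq (ee j) 0 (c⁻¹ * a) := by
    rw [qq_mul _ _ (om_ee_inV hx) (om_zero_right _), add_zero, om_zero_right, add_zero, hzz]
  have e : (qq (ee j) x z' * sB)⁻¹ * (qq (ee j) x z * s * p) = p' * p := by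
    rw [hp', hq']
    group
  show qh A P' j _ _ * _ * phi0 A P' j _ = _
  rw [hg, h1, h2, h3, ← hz', ← hsB, e, phi0_mul hP hF (Sx_le_Gk le_rfl hp'S) hp'e hp hpe, phi0_Sx hP hp'S hp'e]
  have hqh : qh A P' j x z' = qh A P' j x z * A.sh j (qq (ee j) 0 (c⁻¹ * a)) := by
    rw [← qh_zero A (P' := P') (j := j) (c⁻¹ * a), qh_mul hP hF hx (inV_zero _), add_zero, om_zero_right,
      add_zero, hzz]
  have hss : A.sh j s = A.sh j (qq (ee j) 0 (c⁻¹ * a)) * A.sh j sB * A.sh j p' := by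
    rw [← A.homS j _ (qq_ee_mem_Sx j _) _ hsBm, ← A.homS j _ (mul_mem (qq_ee_mem_Sx j _) hsBm) _ hp'S, hp',
      mul_inv_cancel_left]
  rw [hqh, hss]
  group

theorem exists_cell_decomp {g : SpG F n} (hg : g ∈ Gk (j : ℕ)) (hc : act g (ee j) (Sum.inr j) ≠ 0) :
    ∃ x z, ∃ s ∈ Sx j, ∃ p ∈ Gk (j : ℕ), InV ((j : ℕ) + 1) x ∧ act p (ee j) = ee j ∧
      act s (ee j) (Sum.inr j) ≠ 0 ∧ g = qq (ee j) x z * s * p := by
  set v := act g (ee j) with hv
  set c := v (Sum.inr j) with hcd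
  have hvV : InV (j : ℕ) v := (inV_ee le_rfl).image hg
  have hx : InV ((j : ℕ) + 1) (c⁻¹ • xs j v) := (xs_inV hvV).smul _
  refine ⟨_, c⁻¹ * v (Sum.inl j), _, sB_mem j hc, _, ?_, hx, ?_, ?_, (mul_inv_cancel_left _ g).symm⟩
  · exact mul_mem (inv_mem (mul_mem (qq_mem_Gk' hx _) (Sx_le_Gk le_rfl (sB_mem j hc)))) hg
  · rw [act_mul, ← hv]
    refine act_inv_eq ?_
    rw [act_mul, sB_ee j hc, act_smul, act_qq_ff hx]
    conv_rhs => rw [vec_eq j v]
    simp only [smul_add, smul_smul, mul_inv_cancel_left₀ hc, mul_inv_cancel₀ hc, one_smul]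
    rw [← hcd]
    abel
  · rw [sB_ee j hc]
    simpa using hc

theorem phiB_stab (hF : ∃ a : F, a ≠ 0 ∧ a ≠ 1) {p g : SpG F n} (hp : p ∈ Gk (j : ℕ))
    (hpe : act p (ee j) = ee j) (hg : g ∈ Gk (j : ℕ)) (hc : act g (ee j) (Sum.inr j) ≠ 0) :
    phiB A P' j (p * g) = phi0 A P' j p * phiB A P' j g := by
  obtain ⟨y, w, g', hy, hg', rfl⟩ := decomp_stab hp hpe
  obtain ⟨x, z, s, hs, p0, hp0, hx, hp0e, hsc, rfl⟩ := exists_cell_decomp hP hg hc
  have hx' : InV ((j : ℕ) + 1) (act g' x) := hx.image hg'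
  have hcomm : s * g' = g' * s := commute_Sx_Gk hs hg'
  have hg'j : g' ∈ Gk (j : ℕ) := Gk_mono (Nat.le_succ _) hg'
  have hg'e := (mem_Gk_succ.1 hg').2.1
  have e : qq (ee j) y w * g' * (qq (ee j) x z * s * p0) =
      qq (ee j) (y + act g' x) (w + z + om y (act g' x)) * s * (g' * p0) := by
    rw [← qq_mul w z (om_ee_inV hy) (om_ee_inV hx')]
    calc qq (ee j) y w * g' * (qq (ee j) x z * s * p0)
        = qq (ee j) y w * (g' * qq (ee j) x z) * s * p0 := by group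
      _ = qq (ee j) y w * qq (ee j) (act g' x) z * (g' * s) * p0 := by rw [conj_qq_ee hg' hx z]; group
      _ = _ := by rw [← hcomm]; group
  rw [e, phiB_eq hP hF (hy.add hx') _ hs hsc (mul_mem hg'j hp0) (by rw [act_mul, hp0e, hg'e]),
    phiB_eq hP hF hx z hs hsc hp0 hp0e, phi0_eq A hy w hg', ← qh_mul hP hF hy hx', qh_conj hP hg' hx,
    phi0_mul hP hF hg'j hg'e hp0 hp0e, phi0_Gk hP hg']
  have := (commute_sh hP hg' hs).eq
  calc qh A P' j y w * (P' g' * qh A P' j x z * (P' g')⁻¹) * A.sh j s * (P' g' * phi0 A P' j p0)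
      = qh A P' j y w * P' g' * qh A P' j x z * (P' g')⁻¹ * (A.sh j s * P' g') * phi0 A P' j p0 := by group
    _ = qh A P' j y w * P' g' * qh A P' j x z * (P' g')⁻¹ * (P' g' * A.sh j s) * phi0 A P' j p0 := by rw [this]
    _ = _ := by group

theorem phiB_Sx (hF : ∃ a : F, a ≠ 0 ∧ a ≠ 1) {s g : SpG F n} (hs : s ∈ Sx j) (hg : g ∈ Gk (j : ℕ))
    (hc : act g (ee j) (Sum.inr j) ≠ 0) (hsc : act (s * g) (ee j) (Sum.inr j) ≠ 0) :
    phiB A P' j (s * g) = A.sh j s * phiB A P' j g := by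
  obtain ⟨x, z, t, ht, p, hp, hx, hpe, htc, rfl⟩ := exists_cell_decomp hP hg hc
  rw [phiB_eq hP hF hx z ht htc hp hpe]
  by_cases h0 : x = 0
  · subst h0
    set q := qq (ee j) (0 : Vec F n) z with hqd
    have hqS : q ∈ Sx j := qq_ee_mem_Sx j z
    have hall : s * q * t ∈ Sx j := mul_mem (mul_mem hs hqS) ht
    have hc2 : act (s * q * t) (ee j) (Sum.inr j) ≠ 0 := by
      rw [show s * (q * t * p) = s * q * t * p by group, act_mul, hpe] at hsc
      exact hsc
    have e : s * (q * t * p) = qq (ee j) (0 : Vec F n) 0 * (s * q * t) * p := by rw [qq_zero]; group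
    rw [e, phiB_eq hP hF (inV_zero _) 0 hall hc2 hp hpe, qh_zero, qh_zero, qq_zero, (A.homS j).one, one_mul,
      A.homS j _ (mul_mem hs hqS) _ ht, A.homS j _ hs _ hqS, hqd]
    group
  · have hlt : (j : ℕ) + 1 < n := by
      by_contra hcon
      exact h0 (eq_zero_of_inV (by omega) hx)
    set i : Fin n := ⟨(j : ℕ) + 1, hlt⟩
    have hiV : InV ((j : ℕ) + 1) (ee i : Vec F n) := inV_ee le_rfl
    obtain ⟨g', hg', hgx⟩ := exists_act_eq hiV (ee_ne_zero i) hx h0
    obtain ⟨Ψ, hΨ, hM, hS⟩ := A.ms j j hlt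
    set m := qq (ee j) (ee i : Vec F n) z with hm
    have hmM : m ∈ Mx j := by simpa [hm] using qq_mem_Mx (i := j) (i' := i) rfl 1 z
    have hq : qq (ee j) x z = g' * m * g'⁻¹ := by rw [hm, conj_qq_ee hg' hiV z, hgx, mul_inv_cancel_right]
    have hg'j : g' ∈ Gk (j : ℕ) := Gk_mono (Nat.le_succ _) hg'
    have hg'e := (mem_Gk_succ.1 hg').2.1
    have ct : g'⁻¹ * t = t * g'⁻¹ := (commute_Sx_Gk ht (inv_mem hg')).symm
    have cs : s * g' = g' * s := commute_Sx_Gk hs hg'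
    have e : s * (qq (ee j) x z * t * p) = g' * (s * m * t * (g'⁻¹ * p)) := by
      rw [hq]
      calc s * (g' * m * g'⁻¹ * t * p) = (s * g') * m * (g'⁻¹ * t) * p := by group
        _ = _ := by rw [cs, ct]; group
    have hp1 : g'⁻¹ * p ∈ Gk (j : ℕ) := mul_mem (inv_mem hg'j) hp
    have hp1e : act (g'⁻¹ * p) (ee j) = ee j := by rw [act_mul, hpe]; exact act_inv_eq hg'e
    have hk : s * m * t ∈ Mx j ⊔ Sx j :=
      mul_mem (mul_mem (Subgroup.mem_sup_right hs) (Subgroup.mem_sup_left hmM)) (Subgroup.mem_sup_right ht)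
    have hkc : act (s * m * t) (ee j) (Sum.inr j) ≠ 0 := by
      rw [e, act_mul, inr_act hg'e, act_mul, hp1e] at hsc
      exact hsc
    obtain ⟨b, z2, t2, ht2, m2, hm2, hk2, ht2c⟩ := cell (i := i) rfl hk hkc
    have hm1 : qq (ee j) (b • ee i) z2 ∈ Mx j := qq_mem_Mx rfl b z2
    have hm2G : m2 ∈ Gk (j : ℕ) := Mx_le_Gk le_rfl hm2
    have hkp : s * m * t * (g'⁻¹ * p) ∈ Gk (j : ℕ) := mul_mem (sup_le (Mx_le_Gk le_rfl) (Sx_le_Gk le_rfl) hk) hp1
    have hsm : s * m * t * (g'⁻¹ * p) = qq (ee j) (b • ee i) z2 * t2 * (m2 * (g'⁻¹ * p)) := by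
      rw [hk2]; group
    rw [e, phiB_stab hP hF hg'j hg'e hkp (by rw [act_mul, hp1e]; exact hkc), hsm,
      phiB_eq hP hF (hiV.smul b) z2 ht2 ht2c (mul_mem hm2G hp1) (by rw [act_mul, hp1e, hm2.1 j]),
      phi0_mul hP hF hm2G (hm2.1 j) hp1 hp1e, phi0_Mx hP hF hlt hm2, phi0_Gk hP hg',
      phi0_mul hP hF (inv_mem hg'j) (act_inv_eq hg'e) hp hpe, phi0_inv hP hF hg'j hg'e, phi0_Gk hP hg']
    have hΨk : A.mh j (qq (ee j) (b • ee i) z2) * A.sh j t2 * A.mh j m2 = A.sh j s * A.mh j m * A.sh j t := by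
      have a1 := Subgroup.mem_sup_left (T := Sx j) hm1
      have a2 := Subgroup.mem_sup_right (S := Mx j) ht2
      have a3 := Subgroup.mem_sup_left (T := Sx j) hm2
      have b1 := Subgroup.mem_sup_right (S := Mx j) hs
      have b2 := Subgroup.mem_sup_left (T := Sx j) hmM
      have b3 := Subgroup.mem_sup_right (S := Mx j) ht
      rw [← hM _ hm1, ← hS _ ht2, ← hM _ hm2, ← hS _ hs, ← hM _ hmM, ← hS _ ht, ← hΨ _ a1 _ a2,
        ← hΨ _ (mul_mem a1 a2) _ a3, ← hΨ _ b1 _ b2, ← hΨ _ (mul_mem b1 b2) _ b3, hk2]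
    have hqb : qh A P' j (b • ee i) z2 = A.mh j (qq (ee j) (b • ee i) z2) := by
      rw [← phi0_qq hP (hiV.smul b) z2, phi0_Mx hP hF hlt hm1]
    rw [qh_eq hP (i := i) rfl hg' hgx z, ← hm, hqb]
    have c1 := (commute_sh hP hg' ht).eq
    have c2 := (commute_sh hP hg' hs).eq
    calc P' g' * (A.mh j (qq (ee j) (b • ee i) z2) * A.sh j t2 * (A.mh j m2 * ((P' g')⁻¹ * phi0 A P' j p)))
        = P' g' * (A.mh j (qq (ee j) (b • ee i) z2) * A.sh j t2 * A.mh j m2) * ((P' g')⁻¹ * phi0 A P' j p) := by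
          group
      _ = P' g' * (A.sh j s * A.mh j m * A.sh j t) * ((P' g')⁻¹ * phi0 A P' j p) := by rw [hΨk]
      _ = (P' g' * A.sh j s) * A.mh j m * (A.sh j t * (P' g')⁻¹) * phi0 A P' j p := by group
      _ = (A.sh j s * P' g') * A.mh j m * ((P' g')⁻¹ * A.sh j t) * phi0 A P' j p := by
          rw [c2, ((commute_sh hP hg' ht).inv_left).eq]
      _ = _ := by group

end Cfsg.Agent.Lib.SpAmalgam
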