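import Cfsg.Agent.Lib.SpAmalgam.Planes

/-!
# Coherent families of maps on the slim amalgam

Owner: helper64.
-/

set_option autoImplicit false
set_option linter.unusedSectionVars false

namespace Cfsg.Agent.Lib.SpAmalgam

/-- A function multiplicative on a subgroup. -/
def IsHomOn {G H : Type*} [Group G] [Group H] (K : Subgroup G) (f : G → H) : Prop :=
  ∀ a ∈ K, ∀ b ∈ K, f (a * b) = f a * f b

namespace IsHomOn

variable {G H : Type*} [Group G] [Group H] {K : Subgroup G} {f : G → H}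

theorem one (h : IsHomOn K f) : f 1 = 1 := by
  have := h 1 K.one_mem 1 K.one_mem
  rw [mul_one] at this
  exact mul_eq_left.1 this.symm

theorem inv (h : IsHomOn K f) {a : G} (ha : a ∈ K) : f a⁻¹ = (f a)⁻¹ := by
  refine eq_inv_of_mul_eq_one_left ?_
  rw [← h _ (K.inv_mem ha) _ ha, inv_mul_cancel, h.one]

theorem commute (h : IsHomOn K f) {a b : G} (ha : a ∈ K) (hb : b ∈ K) (e : a * b = b * a) :
    Commute (f a) (f b) := by
  show f a * f b = f b * f a
  rw [← h a ha b hb, ← h b hb a ha, e]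

theorem mono (h : IsHomOn K f) {K' : Subgroup G} (hle : K' ≤ K) : IsHomOn K' f := fun a ha b hb =>
  h a (hle ha) b (hle hb)

/-- Elements of a generated subgroup commute with whatever the generators commute with. -/
theorem commute_closure (h : IsHomOn K f) {T : Set G} (hT : T ⊆ K) {y : H}
    (hy : ∀ a ∈ T, Commute (f a) y) {g : G} (hg : g ∈ Subgroup.closure T) : g ∈ K ∧ Commute (f g) y := by
  induction hg using Subgroup.closure_induction with
  | mem a ha => exact ⟨hT ha, hy a ha⟩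
  | one => exact ⟨K.one_mem, by rw [h.one]; exact Commute.one_left y⟩
  | mul a b _ _ iha ihb => exact ⟨K.mul_mem iha.1 ihb.1, by rw [h a iha.1 b ihb.1]; exact iha.2.mul_left ihb.2⟩
  | inv a _ iha => exact ⟨K.inv_mem iha.1, by rw [h.inv iha.1]; exact iha.2.inv_left⟩

end IsHomOn

variable {F : Type*} [Field F] {n : ℕ} {H : Type*} [Group H]

/-- The maps on the members of the amalgam with their coherence. -/
structure Amal (F : Type*) [Field F] (n : ℕ) (H : Type*) [Group H] where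
  sh : Fin n → SpG F n → H
  mh : Fin n → SpG F n → H
  ss : ∀ j l : Fin n, j ≠ l → ∃ Ψ : SpG F n → H, IsHomOn (Sx j ⊔ Sx l) Ψ ∧
    (∀ g ∈ Sx j, Ψ g = sh j g) ∧ ∀ g ∈ Sx l, Ψ g = sh l g
  mm : ∀ i i' : Fin n, i ≠ i' → (i : ℕ) + 1 < n → (i' : ℕ) + 1 < n → ∃ Ψ : SpG F n → H,
    IsHomOn (Mx i ⊔ Mx i') Ψ ∧ (∀ g ∈ Mx i, Ψ g = mh i g) ∧ ∀ g ∈ Mx i', Ψ g = mh i' g
  ms : ∀ i j : Fin n, (i : ℕ) + 1 < n → ∃ Ψ : SpG F n → H, IsHomOn (Mx i ⊔ Sx j) Ψ ∧
    (∀ g ∈ Mx i, Ψ g = mh i g) ∧ ∀ g ∈ Sx j, Ψ g = sh j g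
  homS : ∀ j, IsHomOn (Sx j) (sh j)
  homM : ∀ i : Fin n, (i : ℕ) + 1 < n → IsHomOn (Mx i) (mh i)

namespace Amal

variable (A : Amal F n H)

theorem commute_SS {j l : Fin n} (hne : j ≠ l) {a b : SpG F n} (ha : a ∈ Sx j) (hb : b ∈ Sx l)
    (e : a * b = b * a) : Commute (A.sh j a) (A.sh l b) := by
  obtain ⟨Ψ, hΨ, h1, h2⟩ := A.ss j l hne
  rw [← h1 a ha, ← h2 b hb]
  exact hΨ.commute (Subgroup.mem_sup_left ha) (Subgroup.mem_sup_right hb) e

theorem commute_MS {i j : Fin n} (hi : (i : ℕ) + 1 < n) {a b : SpG F n} (ha : a ∈ Mx i) (hb : b ∈ Sx j)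
    (e : a * b = b * a) : Commute (A.mh i a) (A.sh j b) := by
  obtain ⟨Ψ, hΨ, h1, h2⟩ := A.ms i j hi
  rw [← h1 a ha, ← h2 b hb]
  exact hΨ.commute (Subgroup.mem_sup_left ha) (Subgroup.mem_sup_right hb) e

theorem commute_MM {i i' : Fin n} (hne : i ≠ i') (hi : (i : ℕ) + 1 < n) (hi' : (i' : ℕ) + 1 < n)
    {a b : SpG F n} (ha : a ∈ Mx i) (hb : b ∈ Mx i') (e : a * b = b * a) :
    Commute (A.mh i a) (A.mh i' b) := by
  obtain ⟨Ψ, hΨ, h1, h2⟩ := A.mm i i' hne hi hi'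
  rw [← h1 a ha, ← h2 b hb]
  exact hΨ.commute (Subgroup.mem_sup_left ha) (Subgroup.mem_sup_right hb) e

theorem agree {i j : Fin n} (hi : (i : ℕ) + 1 < n) {a : SpG F n} (ha : a ∈ Mx i) (hb : a ∈ Sx j) :
    A.sh j a = A.mh i a := by
  obtain ⟨Ψ, -, h1, h2⟩ := A.ms i j hi
  rw [← h1 a ha, ← h2 a hb]

end Amal

/-- The generators of the chain from `k` on. -/
def genSet (k : ℕ) : Set (SpG F n) :=
  {g | (∃ j : Fin n, k ≤ j ∧ g ∈ Sx j) ∨ ∃ i : Fin n, k ≤ i ∧ (i : ℕ) + 1 < n ∧ g ∈ Mx i}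

theorem genSet_anti {k k' : ℕ} (h : k ≤ k') : (genSet k' : Set (SpG F n)) ⊆ genSet k := by
  rintro g (⟨j, hj, hg⟩ | ⟨i, hi, hin, hg⟩)
  · exact .inl ⟨j, h.trans hj, hg⟩
  · exact .inr ⟨i, h.trans hi, hin, hg⟩

theorem genSet_subset_Gk (k : ℕ) : (genSet k : Set (SpG F n)) ⊆ (Gk k : Subgroup (SpG F n)) := by
  rintro g (⟨j, hj, hg⟩ | ⟨i, hi, -, hg⟩)
  · exact Sx_le_Gk hj hg
  · exact Mx_le_Gk hi hg

/-- A multiplicative extension of the maps to the subgroup fixing the planes before `k`. -/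
structure Good (A : Amal F n H) (k : ℕ) (Φ : SpG F n → H) : Prop where
  hom : IsHomOn (Gk k) Φ
  onS : ∀ j : Fin n, k ≤ j → ∀ g ∈ Sx j, Φ g = A.sh j g
  onM : ∀ i : Fin n, k ≤ i → (i : ℕ) + 1 < n → ∀ g ∈ Mx i, Φ g = A.mh i g
  gen : ∀ k', k ≤ k' → Gk (F := F) (n := n) k' ≤ Subgroup.closure (genSet k')

theorem good_base (A : Amal F n H) : Good A n (fun _ => 1) where
  hom := fun _ _ _ _ => (mul_one 1).symm
  onS := fun j hj => absurd j.2 (by omega)
  onM := fun i hi => absurd i.2 (by omega)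
  gen := fun k hk => by rw [Gk_eq_bot hk]; exact bot_le

/-- The elements of the `j`-th `SL₂` commute with the subgroup fixing the planes up to `j`. -/
theorem commute_Sx_Gk {j : Fin n} {s a : SpG F n} (hs : s ∈ Sx j) (ha : a ∈ Gk ((j : ℕ) + 1)) :
    s * a = a * s := by
  obtain ⟨-, hae, haf⟩ := mem_Gk_succ.1 ha
  refine act_ext fun v => ?_
  set r := v - v (Sum.inl j) • ee j - v (Sum.inr j) • ff j with hr
  have hv : v = r + v (Sum.inl j) • ee j + v (Sum.inr j) • ff j := by rw [hr]; abel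
  have hr1 : r (Sum.inl j) = 0 := by simp [hr]
  have hr2 : r (Sum.inr j) = 0 := by simp [hr]
  have har1 : act a r (Sum.inl j) = 0 := by
    rw [← om_ff_right j (act a r), ← haf, om_act, om_ff_right, hr1]
  have har2 : act a r (Sum.inr j) = 0 := by
    rw [← om_ee_left j (act a r), ← hae, om_act, om_ee_left, hr2]
  have hpe : act a (act s (ee j)) = act s (ee j) := by
    rw [Sx_act_ee hs, act_add, act_smul, act_smul, hae, haf]
  have hpf : act a (act s (ff j)) = act s (ff j) := by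
    rw [Sx_act_ff hs, act_add, act_smul, act_smul, hae, haf]
  rw [hv]
  simp only [act_mul, act_add, act_smul, hae, haf, hpe, hpf, Sx_act_off hs hr1 hr2, Sx_act_off hs har1 har2]

end Cfsg.Agent.Lib.SpAmalgam
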