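import Cfsg.Agent.Lib.SpAmalgam.Data

/-!
# The unipotent radical of the stabilizer of a basis vector

Owner: helper64.
-/

set_option autoImplicit false
set_option linter.unusedSectionVars false

namespace Cfsg.Agent.Lib.SpAmalgam

variable {F : Type*} [Field F] {n : ℕ} {H : Type*} [Group H] (A : Amal F n H) {j : Fin n} {P' : SpG F n → H}

theorem om_ee_inV {x : Vec F n} (hx : InV ((j : ℕ) + 1) x) : om (ee j) x = 0 := by
  rw [om_ee_left]; exact (hx j (Nat.lt_succ_self _)).2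

theorem om_inV_ff {x : Vec F n} (hx : InV ((j : ℕ) + 1) x) : om x (ff j) = 0 := by
  rw [om_ff_right]; exact (hx j (Nat.lt_succ_self _)).1

theorem om_inV_ee {x : Vec F n} (hx : InV ((j : ℕ) + 1) x) : om x (ee j) = 0 := by
  rw [om_swap, om_ee_inV hx, neg_zero]

theorem conj_qq_ee {g : SpG F n} (hg : g ∈ Gk ((j : ℕ) + 1)) {x : Vec F n} (hx : InV ((j : ℕ) + 1) x) (z : F) :
    g * qq (ee j) x z = qq (ee j) (act g x) z * g := by
  rw [conj_qq g z (om_ee_inV hx), (mem_Gk_succ.1 hg).2.1]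

theorem ee_ne_zero (k : Fin n) : (ee k : Vec F n) ≠ 0 := fun h => by
  have := congrFun h (Sum.inl k)
  simp at this

theorem eq_zero_of_inV {k : ℕ} (h : n ≤ k) {x : Vec F n} (hx : InV k x) : x = 0 := by
  funext i
  rcases i with l | l
  · exact (hx l (by omega)).1
  · exact (hx l (by omega)).2

theorem stab_le (hgen : Gk ((j : ℕ) + 2) ≤ Subgroup.closure (genSet (F := F) (n := n) ((j : ℕ) + 2))) {i : Fin n}
    (hi : (i : ℕ) = (j : ℕ) + 1) {g : SpG F n} (hg : g ∈ Gk ((j : ℕ) + 1)) (hge : act g (ee i) = ee i) :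
    g ∈ Subgroup.closure {a | a ∈ genSet ((j : ℕ) + 1) ∧ act a (ee i) = ee i} := by
  set T := Subgroup.closure {a : SpG F n | a ∈ genSet ((j : ℕ) + 1) ∧ act a (ee i) = ee i} with hT
  have h2 : Gk ((j : ℕ) + 2) ≤ T := hgen.trans (Subgroup.closure_mono fun a ha =>
    ⟨genSet_anti (Nat.le_succ _) ha, (genSet_subset_Gk _ ha i (by omega)).1⟩)
  have hq : ∀ x z, InV ((i : ℕ) + 1) x → qq (ee i) x z ∈ T := by
    intro x z hx
    by_cases h0 : x = 0
    · subst h0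
      refine Subgroup.subset_closure ⟨.inl ⟨i, by omega, qq_ee_mem_Sx i z⟩, ?_⟩
      rw [act_qq z (om_zero_right _)]
      simp [om_zero_left]
    · have hlt : (i : ℕ) + 1 < n := by
        by_contra hc
        exact h0 (eq_zero_of_inV (by omega) hx)
      obtain ⟨g', hg', hg'x⟩ := exists_act_eq (x := ee ⟨(i : ℕ) + 1, hlt⟩) (inV_ee le_rfl) (ee_ne_zero _) hx h0
      have hm : qq (ee i) ((1 : F) • ee ⟨(i : ℕ) + 1, hlt⟩) z ∈ Mx i := qq_mem_Mx (by simp) 1 z
      rw [one_smul] at hm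
      have e := conj_qq_ee hg' (inV_ee (F := F) (j := ⟨(i : ℕ) + 1, hlt⟩) le_rfl) z
      rw [hg'x] at e
      rw [eq_mul_inv_of_mul_eq e.symm]
      refine T.mul_mem (T.mul_mem (h2 (Gk_mono (by simp; omega) hg')) (Subgroup.subset_closure
        ⟨.inr ⟨i, by omega, hlt, hm⟩, hm.1 i⟩)) (T.inv_mem (h2 (Gk_mono (by simp; omega) hg')))
  set u := act g (ff i) with hu
  have hu1 : u (Sum.inr i) = 1 := by
    rw [← om_ee_left i u, hu]
    conv_lhs => arg 1; rw [← hge]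
    rw [om_act]
    simp
  have huV : InV (i : ℕ) u := (inV_ff le_rfl).image (hi ▸ hg)
  set x := u - u (Sum.inl i) • ee i - u (Sum.inr i) • ff i with hx
  have hxV : InV ((i : ℕ) + 1) x := Gk_split huV
  set q := qq (ee i) x (u (Sum.inl i)) with hqdef
  have hqf : act q (ff i) = u := by
    rw [hqdef, act_qq _ (om_ee_inV hxV), om_inV_ff hxV, hx, hu1]
    simp only [om_ee_left, ff_inr, if_true, one_smul, mul_one, zero_add]
    abel
  have hqe : act q (ee i) = ee i := by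
    rw [hqdef, act_qq _ (om_ee_inV hxV), om_self, om_inV_ee hxV]
    simp
  have hqG : q ∈ Gk ((j : ℕ) + 1) :=
    qq_mem_Gk _ (inV_ee (by omega)) (hxV.mono (by omega)) (om_ee_inV hxV)
  have : q⁻¹ * g ∈ Gk ((i : ℕ) + 1) := mem_Gk_succ.2 ⟨hi ▸ mul_mem (inv_mem hqG) hg,
    by rw [act_mul, hge]; exact act_inv_eq hqe, by rw [act_mul, ← hu]; exact act_inv_eq hqf⟩
  have e : g = q * (q⁻¹ * g) := (mul_inv_cancel_left q g).symm
  rw [e]
  exact T.mul_mem (hq _ _ hxV) (h2 (Gk_mono (by omega) this))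

/-- The image of a Siegel element attached to `ee j`. -/
noncomputable def qh (P' : SpG F n → H) (j : Fin n) (x : Vec F n) (z : F) : H := by
  classical
  exact if h : ∃ g : SpG F n, g ∈ Gk ((j : ℕ) + 1) ∧ ∃ i : Fin n, (i : ℕ) = (j : ℕ) + 1 ∧ act g (ee i) = x
    then P' h.choose * A.mh j (qq (ee j) (ee h.choose_spec.2.choose) z) * (P' h.choose)⁻¹
    else A.sh j (qq (ee j) 0 z)

theorem qh_zero (z : F) : qh A P' j 0 z = A.sh j (qq (ee j) 0 z) := by
  unfold qh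
  refine dif_neg ?_
  rintro ⟨g, -, i, -, hgi⟩
  refine ee_ne_zero (F := F) i ?_
  rw [← act_inv_act g (ee i), hgi, act_zero]

variable {A} (hP : Good A ((j : ℕ) + 1) P')
include hP

theorem commute_fix {i : Fin n} (hi : (i : ℕ) = (j : ℕ) + 1) {g : SpG F n} (hg : g ∈ Gk ((j : ℕ) + 1))
    (hge : act g (ee i) = ee i) (z : F) : Commute (P' g) (A.mh j (qq (ee j) (ee i) z)) := by
  have hj : (j : ℕ) + 1 < n := hi ▸ i.2
  have hm : qq (ee j) (ee i) z ∈ Mx j := by simpa using qq_mem_Mx hi 1 z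
  refine (hP.hom.commute_closure (fun a ha => genSet_subset_Gk _ ha.1) ?_
    (stab_le (hP.gen _ (by omega)) hi hg hge)).2
  rintro a ⟨ha, hae⟩
  have e : a * qq (ee j) (ee i) z = qq (ee j) (ee i) z * a := by
    rw [conj_qq_ee (genSet_subset_Gk _ ha) (inV_ee (by omega)) z, hae]
  rcases ha with ⟨l, hl, hal⟩ | ⟨l, hl, hln, hal⟩
  · rw [hP.onS l hl a hal]
    exact (A.commute_MS hj hm hal e.symm).symm
  · rw [hP.onM l hl hln a hal]
    exact (A.commute_MM (fun h => by rw [h] at hl; omega) hj hln hm hal e.symm).symm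

theorem commute_sh {g s : SpG F n} (hg : g ∈ Gk ((j : ℕ) + 1)) (hs : s ∈ Sx j) :
    Commute (P' g) (A.sh j s) := by
  refine (hP.hom.commute_closure (genSet_subset_Gk _) ?_ (hP.gen _ le_rfl hg)).2
  intro a ha
  have e : s * a = a * s := commute_Sx_Gk hs (genSet_subset_Gk _ ha)
  rcases ha with ⟨l, hl, hal⟩ | ⟨l, hl, hln, hal⟩
  · rw [hP.onS l hl a hal]
    exact (A.commute_SS (fun h => by rw [h] at hl; omega) hs hal e).symm
  · rw [hP.onM l hl hln a hal]
    exact A.commute_MS hln hal hs e.symm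

theorem qh_eq {i : Fin n} (hi : (i : ℕ) = (j : ℕ) + 1) {g : SpG F n} (hg : g ∈ Gk ((j : ℕ) + 1)) {x : Vec F n}
    (hgx : act g (ee i) = x) (z : F) :
    qh A P' j x z = P' g * A.mh j (qq (ee j) (ee i) z) * (P' g)⁻¹ := by
  have h : ∃ g : SpG F n, g ∈ Gk ((j : ℕ) + 1) ∧ ∃ i : Fin n, (i : ℕ) = (j : ℕ) + 1 ∧ act g (ee i) = x :=
    ⟨g, hg, i, hi, hgx⟩
  unfold qh
  rw [dif_pos h]
  obtain ⟨h1, h2⟩ := h.choose_spec
  obtain ⟨h3, h4⟩ := h2.choose_spec
  have hii : h.choose_spec.2.choose = i := Fin.ext (h3.trans hi.symm)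
  rw [hii] at h4 ⊢
  set g0 := h.choose
  have hc := commute_fix hP hi (mul_mem (inv_mem hg) h1) (by rw [act_mul, h4]; exact act_inv_eq hgx) z
  rw [hP.hom _ (inv_mem hg) _ h1, hP.hom.inv hg] at hc
  have := hc.eq
  calc P' g0 * A.mh j (qq (ee j) (ee i) z) * (P' g0)⁻¹
      = P' g * ((P' g)⁻¹ * P' g0 * A.mh j (qq (ee j) (ee i) z)) * (P' g0)⁻¹ := by group
    _ = P' g * (A.mh j (qq (ee j) (ee i) z) * ((P' g)⁻¹ * P' g0)) * (P' g0)⁻¹ := by rw [this]
    _ = _ := by group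

theorem qh_conj {g : SpG F n} (hg : g ∈ Gk ((j : ℕ) + 1)) {x : Vec F n} (hx : InV ((j : ℕ) + 1) x) (z : F) :
    qh A P' j (act g x) z = P' g * qh A P' j x z * (P' g)⁻¹ := by
  by_cases h0 : x = 0
  · subst h0
    rw [act_zero, qh_zero, (commute_sh hP hg (qq_ee_mem_Sx j z)).eq, mul_inv_cancel_right]
  · have hlt : (j : ℕ) + 1 < n := by
      by_contra hc
      exact h0 (eq_zero_of_inV (by omega) hx)
    obtain ⟨g0, hg0, hg0x⟩ := exists_act_eq (x := ee ⟨(j : ℕ) + 1, hlt⟩) (inV_ee le_rfl) (ee_ne_zero _) hx h0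
    rw [qh_eq hP (i := ⟨(j : ℕ) + 1, hlt⟩) rfl hg0 hg0x,
      qh_eq hP (i := ⟨(j : ℕ) + 1, hlt⟩) rfl (mul_mem hg hg0) (by rw [act_mul, hg0x]), hP.hom _ hg _ hg0]
    group

/-- Vectors in the next plane are handled inside one member pair. -/
theorem exists_plane {i : Fin n} (hi : (i : ℕ) = (j : ℕ) + 1) :
    ∃ Ψ : SpG F n → H, IsHomOn (Mx j ⊔ Sx i) Ψ ∧ (∀ g ∈ Mx j, Ψ g = A.mh j g) ∧
      (∀ g ∈ Sx i, Ψ g = A.sh i g) ∧ ∀ (v : Vec F n) (z : F),
        (∀ l : Fin n, l ≠ i → v (Sum.inl l) = 0 ∧ v (Sum.inr l) = 0) →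
        qq (ee j) v z ∈ Mx j ⊔ Sx i ∧ qh A P' j v z = Ψ (qq (ee j) v z) := by
  have hj : (j : ℕ) + 1 < n := hi ▸ i.2
  obtain ⟨Ψ, hΨ, h1, h2⟩ := A.ms j i hj
  refine ⟨Ψ, hΨ, h1, h2, fun v z hv => ?_⟩
  by_cases h0 : v = 0
  · subst h0
    have hm : qq (ee j) (0 : Vec F n) z ∈ Mx j := by simpa using qq_mem_Mx hi 0 z
    exact ⟨Subgroup.mem_sup_left hm, by rw [qh_zero, h1 _ hm, A.agree hj hm (qq_ee_mem_Sx j z)]⟩
  · obtain ⟨s, hs, hsv⟩ : ∃ s ∈ Sx i, act s (ee i) = v := by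
      have ev := plane_eq hv
      by_cases ha : v (Sum.inl i) = 0
      · have hc : v (Sum.inr i) ≠ 0 := fun hc => h0 (by rw [ev, ha, hc]; simp)
        refine ⟨_, sl_mem i (a := 0) (b := -(v (Sum.inr i))⁻¹) (c := v (Sum.inr i)) (d := 0)
          (by field_simp; ring), ?_⟩
        rw [act_sl i (by field_simp; ring)]
        conv_rhs => rw [ev, ha]
        simp
      · refine ⟨_, sl_mem i (a := v (Sum.inl i)) (b := 0) (c := v (Sum.inr i)) (d := (v (Sum.inl i))⁻¹)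
          (by field_simp; ring), ?_⟩
        rw [act_sl i (by field_simp; ring)]
        conv_rhs => rw [ev]
        simp [sub_smul]
    have hm : qq (ee j) (ee i) z ∈ Mx j := by simpa using qq_mem_Mx hi 1 z
    have hsG : s ∈ Gk ((j : ℕ) + 1) := Sx_le_Gk hi.ge hs
    have e : qq (ee j) v z = s * qq (ee j) (ee i) z * s⁻¹ := by
      rw [conj_qq_ee hsG (inV_ee hi.ge) z, hsv, mul_inv_cancel_right]
    have m1 := Subgroup.mem_sup_left (T := Sx i) hm
    have m2 := Subgroup.mem_sup_right (S := Mx j) hs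
    refine ⟨e ▸ mul_mem (mul_mem m2 m1) (inv_mem m2), ?_⟩
    rw [qh_eq hP hi hsG hsv, e, hΨ _ (mul_mem m2 m1) _ (inv_mem m2), hΨ _ m2 _ m1, hΨ.inv m2, h1 _ hm, h2 _ hs,
      hP.onS i hi.ge s hs]

theorem qh_mul_plane {i : Fin n} (hi : (i : ℕ) = (j : ℕ) + 1) {g : SpG F n} (hg : g ∈ Gk ((j : ℕ) + 1))
    {u v : Vec F n} (hu : ∀ l : Fin n, l ≠ i → u (Sum.inl l) = 0 ∧ u (Sum.inr l) = 0)
    (hv : ∀ l : Fin n, l ≠ i → v (Sum.inl l) = 0 ∧ v (Sum.inr l) = 0) (z w : F) :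
    qh A P' j (act g u) z * qh A P' j (act g v) w =
      qh A P' j (act g u + act g v) (z + w + om (act g u) (act g v)) := by
  obtain ⟨Ψ, hΨ, -, -, h⟩ := exists_plane hP hi
  have inV : ∀ {x : Vec F n}, (∀ l : Fin n, l ≠ i → x (Sum.inl l) = 0 ∧ x (Sum.inr l) = 0) →
      InV ((j : ℕ) + 1) x := fun hx l hl => hx l fun e => by rw [e] at hl; omega
  have huv : ∀ l : Fin n, l ≠ i → (u + v) (Sum.inl l) = 0 ∧ (u + v) (Sum.inr l) = 0 := fun l hl => by
    simp [hu l hl, hv l hl]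
  rw [← act_add, om_act, qh_conj hP hg (inV hu), qh_conj hP hg (inV hv), qh_conj hP hg (inV huv),
    (h u z hu).2, (h v w hv).2, (h _ _ huv).2,
    ← qq_mul z w (om_ee_inV (inV hu)) (om_ee_inV (inV hv)), hΨ _ (h u z hu).1 _ (h v w hv).1]
  group

theorem qh_mul_generic {x y : Vec F n} (hx : InV ((j : ℕ) + 1) x) (hy : InV ((j : ℕ) + 1) y)
    (h : om x y ≠ 0) (z w : F) : qh A P' j x z * qh A P' j y w = qh A P' j (x + y) (z + w + om x y) := by
  have h0 : x ≠ 0 := fun e => h (by rw [e, om_zero_left])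
  have hlt : (j : ℕ) + 1 < n := by
    by_contra hc
    exact h0 (eq_zero_of_inV (by omega) hx)
  set i : Fin n := ⟨(j : ℕ) + 1, hlt⟩
  obtain ⟨g, hg, hge, hgf⟩ := exists_pair_eq (k := (j : ℕ) + 1) (x := ee i) (y := ff i) (inV_ee le_rfl)
    (inV_ff le_rfl) hx (hy.smul (om x y)⁻¹) (by simp) (by rw [om_smul_right, inv_mul_cancel₀ h])
  have e : act g (om x y • ff i) = y := by rw [act_smul, hgf, smul_inv_smul₀ h]
  have := qh_mul_plane hP (i := i) rfl hg (u := ee i) (v := om x y • ff i)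
    (fun l hl => by simp [hl]) (fun l hl => by simp [hl]) z w
  rwa [hge, e] at this

theorem qh_mul (hF : ∃ a : F, a ≠ 0 ∧ a ≠ 1) {x y : Vec F n} (hx : InV ((j : ℕ) + 1) x)
    (hy : InV ((j : ℕ) + 1) y) (z w : F) :
    qh A P' j x z * qh A P' j y w = qh A P' j (x + y) (z + w + om x y) := by
  by_cases hgen : om x y = 0
  swap
  · exact qh_mul_generic hP hx hy hgen z w
  by_cases h0 : x = 0 ∧ y = 0
  · obtain ⟨rfl, rfl⟩ := h0
    rw [add_zero, qh_zero, qh_zero, qh_zero, ← A.homS j _ (qq_ee_mem_Sx j z) _ (qq_ee_mem_Sx j w),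
      qq_mul z w (om_zero_right _) (om_zero_right _), add_zero]
  have hlt : (j : ℕ) + 1 < n := by
    by_contra hc
    exact h0 ⟨eq_zero_of_inV (by omega) hx, eq_zero_of_inV (by omega) hy⟩
  set i : Fin n := ⟨(j : ℕ) + 1, hlt⟩
  have hee : InV ((j : ℕ) + 1) (ee i : Vec F n) := inV_ee le_rfl
  have pl : ∀ c : F, ∀ l : Fin n, l ≠ i → (c • ee i : Vec F n) (Sum.inl l) = 0 ∧
      (c • ee i : Vec F n) (Sum.inr l) = 0 := fun c l hl => by simp [hl]
  by_cases hx0 : x = 0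
  · have hy0 : y ≠ 0 := fun e => h0 ⟨hx0, e⟩
    obtain ⟨g, hg, hgy⟩ := exists_act_eq hee (ee_ne_zero i) hy hy0
    have := qh_mul_plane hP (i := i) rfl hg (pl 0) (pl 1) z w
    rw [zero_smul, one_smul, act_zero, hgy] at this
    rw [hx0]
    exact this
  obtain ⟨g, hg, hgx⟩ := exists_act_eq hee (ee_ne_zero i) hx hx0
  set y' := act g⁻¹ y with hy'
  have hy'V : InV ((j : ℕ) + 1) y' := hy.image (inv_mem hg)
  have hey : y' (Sum.inr i) = 0 := by
    rw [← om_ee_left i y', hy', ← act_inv_eq hgx, om_act]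
    exact hgen
  set r := y' - y' (Sum.inl i) • ee i - y' (Sum.inr i) • ff i with hr
  by_cases hr0 : r = 0
  · have e : y' = y' (Sum.inl i) • ee i := by
      rw [hr, hey, zero_smul, sub_zero, sub_eq_zero] at hr0
      exact hr0
    have := qh_mul_plane hP (i := i) rfl hg (pl 1) (pl (y' (Sum.inl i))) z w
    rw [one_smul, ← e, hgx, hy', act_act_inv] at this
    exact this
  -- an auxiliary vector in general position
  obtain ⟨a₀, ha0, ha1⟩ := hF
  obtain ⟨t, ht0, ht1⟩ : ∃ t : F, t ≠ 0 ∧ 1 + t ≠ 0 := by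
    by_cases h2 : (1 : F) + 1 = 0
    · refine ⟨a₀, ha0, fun e => ha1 ?_⟩
      exact add_left_cancel (e.trans h2.symm)
    · exact ⟨1, one_ne_zero, h2⟩
  obtain ⟨u0, hu0, hru⟩ := exists_om_ne (Gk_split (j := i) hy'V) hr0
  set s := (t - y' (Sum.inl i)) * (om r u0)⁻¹ with hs
  set u := act g (ff i + s • u0) with hu
  have hu0' : InV ((j : ℕ) + 1) u0 := hu0.mono (Nat.le_succ _)
  have huV : InV ((j : ℕ) + 1) u :=
    ((inV_ff (F := F) (j := i) le_rfl).add (hu0'.smul s)).image hg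
  have hxu : om x u = 1 := by
    rw [hu, ← hgx, om_act, om_add_right, om_smul_right, om_ee_inV hu0]
    simp
  have hyu : om y u = t := by
    have ey : y' = y' (Sum.inl i) • ee i + r := by rw [hr, hey, zero_smul, sub_zero, add_sub_cancel]
    have e1 : om r (ff i) = 0 := om_inV_ff (Gk_split (j := i) hy'V)
    have e3 : om y' (ff i) = y' (Sum.inl i) := om_ff_right i y'
    have e4 : om y' u0 = om r u0 := by
      conv_lhs => rw [ey]
      rw [om_add_left, om_smul_left, om_ee_inV hu0, mul_zero, zero_add]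
    rw [← act_act_inv g y, ← hy', hu, om_act, om_add_right, om_smul_right, e3, e4, hs, mul_assoc,
      inv_mul_cancel₀ hru]
    ring
  have huy : om u (y - u) = -t := by rw [om_sub_right, om_self, sub_zero, om_swap, hyu]
  set w' := w - om u (y - u) with hw'
  have s1 : qh A P' j y w = qh A P' j u 0 * qh A P' j (y - u) w' := by
    rw [qh_mul_generic hP huV (hy.sub huV) (by rw [huy]; exact neg_ne_zero.2 ht0), hw', add_sub_cancel,
      zero_add, sub_add_cancel]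
  rw [s1, ← mul_assoc, qh_mul_generic hP hx huV (by rw [hxu]; exact one_ne_zero),
    qh_mul_generic hP (hx.add huV) (hy.sub huV) ?_]
  · congr 1
    · abel
    · rw [hw', om_add_left, om_sub_right, om_sub_right, om_self, hgen, hxu]
      ring
  · rw [om_add_left, om_sub_right, hgen, hxu, huy]
    intro e
    apply ht1
    linear_combination -e

theorem qh_inv (hF : ∃ a : F, a ≠ 0 ∧ a ≠ 1) {x : Vec F n} (hx : InV ((j : ℕ) + 1) x) (z : F) :
    (qh A P' j x z)⁻¹ = qh A P' j (-x) (-z) := by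
  refine inv_eq_of_mul_eq_one_right ?_
  rw [qh_mul hP hF hx hx.neg, add_neg_cancel, add_neg_cancel, om_neg_right, om_self, neg_zero, add_zero,
    qh_zero, qq_zero, (A.homS j).one]

end Cfsg.Agent.Lib.SpAmalgam
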