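import Cfsg.Agent.Lib.SpAmalgam.Orbit

/-!
# The universal completion of the slim amalgam

Owner: helper64.
-/

set_option autoImplicit false
set_option linter.unusedSectionVars false

namespace Cfsg.Agent.Lib.SpAmalgam

variable {F : Type*} [Field F] {n : ℕ} {H : Type*} [Group H] {A : Amal F n H} {j : Fin n} {P' : SpG F n → H}

theorem gen_step (hgen : Gk ((j : ℕ) + 1) ≤ Subgroup.closure (genSet (F := F) (n := n) ((j : ℕ) + 1))) :
    Gk (F := F) (n := n) (j : ℕ) ≤ Subgroup.closure (genSet (j : ℕ)) := by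
  set T := Subgroup.closure (genSet (F := F) (n := n) (j : ℕ)) with hT
  have hS : Sx (F := F) j ≤ T := fun a ha => Subgroup.subset_closure (.inl ⟨j, le_rfl, ha⟩)
  have hG : Gk ((j : ℕ) + 1) ≤ T := hgen.trans (Subgroup.closure_mono (genSet_anti (Nat.le_succ _)))
  have hQ : ∀ {x : Vec F n}, InV ((j : ℕ) + 1) x → ∀ z, qq (ee j) x z ∈ T := by
    intro x hx z
    by_cases h0 : x = 0
    · exact h0 ▸ hS (qq_ee_mem_Sx j z)
    have hlt : (j : ℕ) + 1 < n := by
      by_contra hcon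
      exact h0 (eq_zero_of_inV (by omega) hx)
    set i : Fin n := ⟨(j : ℕ) + 1, hlt⟩
    obtain ⟨a, ha, hax⟩ := exists_act_eq (x := ee i) (inV_ee le_rfl) (ee_ne_zero _) hx h0
    have hm : qq (ee j) ((1 : F) • ee i) z ∈ Mx j := qq_mem_Mx rfl 1 z
    rw [one_smul] at hm
    have e := conj_qq_ee ha (inV_ee (F := F) (j := i) le_rfl) z
    rw [hax] at e
    rw [eq_mul_inv_of_mul_eq e.symm]
    exact T.mul_mem (T.mul_mem (hG ha) (Subgroup.subset_closure (.inr ⟨j, le_rfl, hlt, hm⟩))) (T.inv_mem (hG ha))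
  have hp : ∀ p ∈ Gk (F := F) (n := n) (j : ℕ), act p (ee j) = ee j → p ∈ T := fun p hp hpe => by
    obtain ⟨x, z, a, hx, ha, rfl⟩ := decomp_stab hp hpe
    exact T.mul_mem (hQ hx z) (hG ha)
  intro g hg
  obtain ⟨y, hy, hoff⟩ := exists_off hg
  obtain ⟨t, ht, hc⟩ := exists_move hoff
  set v := act (t * (qq (ee j) y 0 * g)) (ee j) with hv
  set f := t * (qq (ee j) y 0 * g) with hf
  have hfG : f ∈ Gk (j : ℕ) := mul_mem (Sx_le_Gk le_rfl ht) (mul_mem (qq_mem_Gk' hy 0) hg)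
  have hvV : InV (j : ℕ) v := (inV_ee le_rfl).image hfG
  set c := v (Sum.inr j) with hcdef
  have hx : InV ((j : ℕ) + 1) (c⁻¹ • xs j v) := (xs_inV hvV).smul _
  set q' := qq (ee j) (c⁻¹ • xs j v) (c⁻¹ * v (Sum.inl j)) * sl j 0 (-c⁻¹) c 0 with hq'
  have hq'T : q' ∈ T := T.mul_mem (hQ hx _) (hS (sB_mem j hc))
  have hfix : act (q'⁻¹ * f) (ee j) = ee j := by
    rw [act_mul, ← hv]
    refine act_inv_eq ?_
    rw [hq', act_mul, sB_ee j hc, act_smul, act_qq_ff hx]
    conv_rhs => rw [vec_eq j v]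
    simp only [smul_add, smul_smul, mul_inv_cancel_left₀ hc, mul_inv_cancel₀ hc, one_smul]
    rw [← hcdef]
    abel
  have hrest : q'⁻¹ * f ∈ T := hp _ (mul_mem (inv_mem (mul_mem (qq_mem_Gk' hx _)
    (Sx_le_Gk le_rfl (sB_mem j hc)))) hfG) hfix
  have e : g = (qq (ee j) y 0)⁻¹ * (t⁻¹ * (q' * (q'⁻¹ * f))) := by rw [hf]; group
  rw [e]
  exact T.mul_mem (T.inv_mem (hQ hy 0)) (T.mul_mem (T.inv_mem (hS ht)) (T.mul_mem hq'T hrest))

theorem phi_one (hP : Good A ((j : ℕ) + 1) P') (hF : ∃ a : F, a ≠ 0 ∧ a ≠ 1) : phi A P' j 1 = 1 := by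
  set t := sl j (1 : F) 0 1 1 with ht
  have htS : t ∈ Sx j := sl_mem j (by ring)
  have hc : act t (ee j) (Sum.inr j) ≠ 0 := by
    rw [ht, act_sl j (by ring)]
    simp
  rw [phi_of_off hP hF (one_mem _) (off_one j), phi1_eq hP hF (one_mem _) htS (by rwa [mul_one])]
  have e : t * 1 = qq (ee j) (0 : Vec F n) 0 * t * 1 := by rw [qq_zero, one_mul]
  rw [e, phiB_eq hP hF (inV_zero _) 0 htS hc (one_mem _) (act_one _), qh_zero, qq_zero, (A.homS j).one,
    phi0_Gk hP (one_mem _), hP.hom.one, one_mul, mul_one, inv_mul_cancel]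

theorem good_step (hP : Good A ((j : ℕ) + 1) P') (hF : ∃ a : F, a ≠ 0 ∧ a ≠ 1) :
    Good A (j : ℕ) (phi A P' j) := by
  have h1 := phi_one hP hF
  have hgen := gen_step (hP.gen _ le_rfl)
  have hS : ∀ l : Fin n, (j : ℕ) ≤ l → ∀ a ∈ Sx (F := F) l, ∀ g ∈ Gk (j : ℕ),
      phi A P' j (a * g) = A.sh l a * phi A P' j g := by
    intro l hl a ha g hg
    rcases eq_or_lt_of_le hl with e | e
    · obtain rfl := Fin.ext e
      exact phi_sx hP hF hg ha
    · rw [phi_gk hP hF hg (Sx_le_Gk e ha), hP.onS l e a ha]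
  have hM : ∀ i : Fin n, (j : ℕ) ≤ i → (i : ℕ) + 1 < n → ∀ a ∈ Mx (F := F) i, ∀ g ∈ Gk (j : ℕ),
      phi A P' j (a * g) = A.mh i a * phi A P' j g := by
    intro i hi hin a ha g hg
    rcases eq_or_lt_of_le hi with e | e
    · obtain rfl := Fin.ext e
      exact phi_mx hP hF hin hg ha
    · rw [phi_gk hP hF hg (Mx_le_Gk e ha), hP.onM i e hin a ha]
  refine ⟨fun a ha => ?_, fun l hl a ha => ?_, fun i hi hin a ha => ?_, fun k' hk' => ?_⟩
  · have ha' := hgen ha
    clear ha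
    suffices a ∈ Gk (j : ℕ) ∧ ∀ g ∈ Gk (j : ℕ), phi A P' j (a * g) = phi A P' j a * phi A P' j g from this.2
    induction ha' using Subgroup.closure_induction with
    | mem a ha =>
      refine ⟨genSet_subset_Gk _ ha, fun g hg => ?_⟩
      rcases ha with ⟨l, hl, hal⟩ | ⟨i, hi, hin, hal⟩
      · have e := hS l hl a hal 1 (one_mem _)
        rw [mul_one, h1, mul_one] at e
        rw [hS l hl a hal g hg, e]
      · have e := hM i hi hin a hal 1 (one_mem _)
        rw [mul_one, h1, mul_one] at e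
        rw [hM i hi hin a hal g hg, e]
    | one => exact ⟨one_mem _, fun g _ => by rw [one_mul, h1, one_mul]⟩
    | mul a b _ _ iha ihb =>
      exact ⟨mul_mem iha.1 ihb.1, fun g hg => by
        rw [mul_assoc, iha.2 _ (mul_mem ihb.1 hg), ihb.2 g hg, iha.2 b ihb.1, mul_assoc]⟩
    | inv a _ iha =>
      refine ⟨inv_mem iha.1, fun g hg => ?_⟩
      have e1 := iha.2 _ (mul_mem (inv_mem iha.1) hg)
      have e2 := iha.2 _ (inv_mem iha.1)
      rw [mul_inv_cancel_left] at e1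
      rw [mul_inv_cancel, h1] at e2
      rw [eq_inv_of_mul_eq_one_right e2.symm, e1, inv_mul_cancel_left]
  · simpa [h1] using hS l hl a ha 1 (one_mem _)
  · simpa [h1] using hM i hi hin a ha 1 (one_mem _)
  · rcases eq_or_lt_of_le hk' with e | e
    · exact e ▸ hgen
    · exact hP.gen k' e

theorem exists_good (A : Amal F n H) (hF : ∃ a : F, a ≠ 0 ∧ a ≠ 1) :
    ∀ k, k ≤ n → ∃ P : SpG F n → H, Good A k P := by
  intro k hk
  induction hm : n - k generalizing k with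
  | zero =>
    obtain rfl : k = n := by omega
    exact ⟨_, good_base A⟩
  | succ m ih =>
    obtain ⟨P, hP⟩ := ih (k + 1) (by omega) (by omega)
    exact ⟨_, good_step (j := ⟨k, by omega⟩) hP hF⟩

theorem Gk_zero : Gk (F := F) (n := n) 0 = ⊤ :=
  eq_top_iff.2 fun _ _ _ hl => absurd hl (Nat.not_lt_zero _)

end Cfsg.Agent.Lib.SpAmalgam
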