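import Cfsg.Agent.Lib.SpAmalgam.Cell

/-!
# Extending from the open cell to the whole group

Owner: helper64.
-/

set_option autoImplicit false
set_option linter.unusedSectionVars false

namespace Cfsg.Agent.Lib.SpAmalgam

variable {F : Type*} [Field F] {n : ℕ} {H : Type*} [Group H] {A : Amal F n H} {j : Fin n} {P' : SpG F n → H}

/-- The `j`-th plane component of the image of `ee j` is not zero. -/
def Off (j : Fin n) (g : SpG F n) : Prop :=
  act g (ee j) (Sum.inl j) ≠ 0 ∨ act g (ee j) (Sum.inr j) ≠ 0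

theorem off_one (j : Fin n) : Off j (1 : SpG F n) := .inl (by simp [act_one])

theorem act_eq_of_Gk {a : SpG F n} (ha : a ∈ Gk ((j : ℕ) + 1)) (v : Vec F n) :
    act a v (Sum.inl j) = v (Sum.inl j) ∧ act a v (Sum.inr j) = v (Sum.inr j) :=
  ⟨inl_act (mem_Gk_succ.1 ha).2.2 v, inr_act (mem_Gk_succ.1 ha).2.1 v⟩

theorem Off.gk {g a : SpG F n} (ha : a ∈ Gk ((j : ℕ) + 1)) (h : Off j g) : Off j (a * g) := by
  unfold Off
  rw [act_mul, (act_eq_of_Gk ha _).1, (act_eq_of_Gk ha _).2]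
  exact h

theorem Off.sx {g s : SpG F n} (hs : s ∈ Sx j) (h : Off j g) : Off j (s * g) := by
  by_contra hn
  simp only [Off, not_or, not_not, act_mul] at hn
  have := Sx_act_off (inv_mem hs) hn.1 hn.2
  rw [act_inv_act] at this
  rcases h with h | h
  · exact h (by rw [this]; exact hn.1)
  · exact h (by rw [this]; exact hn.2)

theorem exists_move {g : SpG F n} (h : Off j g) : ∃ t ∈ Sx j, act (t * g) (ee j) (Sum.inr j) ≠ 0 := by
  by_cases hc : act g (ee j) (Sum.inr j) = 0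
  · refine ⟨_, sl_mem j (a := 1) (b := 0) (c := 1) (d := 1) (by ring), ?_⟩
    rw [act_mul, act_sl j (by ring)]
    simpa [hc] using h.resolve_right (not_not.2 hc)
  · exact ⟨1, one_mem _, by rwa [one_mul]⟩

theorem act_qq_coords {y : Vec F n} (hy : InV ((j : ℕ) + 1) y) (z : F) (v : Vec F n) :
    act (qq (ee j) y z) v (Sum.inl j) = v (Sum.inl j) + (om y v + z * v (Sum.inr j)) ∧
      act (qq (ee j) y z) v (Sum.inr j) = v (Sum.inr j) := by
  rw [act_qq z (om_ee_inV hy)]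
  simp [hy.coords]

theorem exists_off {g : SpG F n} (hg : g ∈ Gk (j : ℕ)) : ∃ y, InV ((j : ℕ) + 1) y ∧ Off j (qq (ee j) y 0 * g) := by
  by_cases h : Off j g
  · exact ⟨0, inV_zero _, by rwa [qq_zero, one_mul]⟩
  · simp only [Off, not_or, not_not] at h
    set v := act g (ee j) with hv
    have hvV : InV (j : ℕ) v := (inV_ee le_rfl).image hg
    have hx : xs j v = v := by simp [xs, h.1, h.2]
    have h0 : v ≠ 0 := fun e => by
      refine ee_ne_zero (F := F) j ?_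
      rw [← act_inv_act g (ee j), ← hv, e, act_zero]
    obtain ⟨u, hu, hvu⟩ := exists_om_ne (xs_inV hvV) (by rwa [hx])
    refine ⟨u, hu, .inl ?_⟩
    rw [act_mul, ← hv, (act_qq_coords hu 0 v).1, h.1, h.2, om_swap, ← hx]
    simpa using hvu

/-- The map on the elements moving `ee j` off the hyperplane complement. -/
noncomputable def phi1 (A : Amal F n H) (P' : SpG F n → H) (j : Fin n) (g : SpG F n) : H := by
  classical
  exact if h : Off j g then (A.sh j (exists_move h).choose)⁻¹ * phiB A P' j ((exists_move h).choose * g) else 1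

/-- The map on the whole group. -/
noncomputable def phi (A : Amal F n H) (P' : SpG F n → H) (j : Fin n) (g : SpG F n) : H := by
  classical
  exact if h : g ∈ Gk (j : ℕ) then
    (qh A P' j (exists_off h).choose 0)⁻¹ * phi1 A P' j (qq (ee j) (exists_off h).choose 0 * g) else 1

variable (hP : Good A ((j : ℕ) + 1) P') (hF : ∃ a : F, a ≠ 0 ∧ a ≠ 1)
include hP hF

theorem phi1_eq {g t : SpG F n} (hg : g ∈ Gk (j : ℕ)) (ht : t ∈ Sx j)
    (hc : act (t * g) (ee j) (Sum.inr j) ≠ 0) :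
    phi1 A P' j g = (A.sh j t)⁻¹ * phiB A P' j (t * g) := by
  have h : Off j g := by
    have : Off j (t * g) := .inr hc
    simpa using this.sx (inv_mem ht)
  unfold phi1
  rw [dif_pos h]
  obtain ⟨hs, hsc⟩ := (exists_move h).choose_spec
  set s := (exists_move h).choose
  have e : t * g = t * s⁻¹ * (s * g) := by group
  rw [e] at hc ⊢
  rw [phiB_Sx hP hF (mul_mem ht (inv_mem hs)) (mul_mem (Sx_le_Gk le_rfl hs) hg) hsc hc,
    A.homS j _ ht _ (inv_mem hs), (A.homS j).inv hs]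
  group

theorem phi1_sx {g s : SpG F n} (hg : g ∈ Gk (j : ℕ)) (h : Off j g) (hs : s ∈ Sx j) :
    phi1 A P' j (s * g) = A.sh j s * phi1 A P' j g := by
  obtain ⟨t, ht, hc⟩ := exists_move (h.sx hs)
  rw [phi1_eq hP hF (mul_mem (Sx_le_Gk le_rfl hs) hg) ht hc, ← mul_assoc t s g,
    phi1_eq hP hF hg (mul_mem ht hs) (by rwa [mul_assoc]), A.homS j _ ht _ hs]
  group

theorem phi1_gk {g a : SpG F n} (hg : g ∈ Gk (j : ℕ)) (h : Off j g) (ha : a ∈ Gk ((j : ℕ) + 1)) :
    phi1 A P' j (a * g) = P' a * phi1 A P' j g := by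
  obtain ⟨t, ht, hc⟩ := exists_move h
  have e : t * (a * g) = a * (t * g) := by rw [← mul_assoc, commute_Sx_Gk ht ha, mul_assoc]
  have haj : a ∈ Gk (j : ℕ) := Gk_mono (Nat.le_succ _) ha
  rw [phi1_eq hP hF (mul_mem haj hg) ht (by rw [e, act_mul, (act_eq_of_Gk ha _).2]; exact hc), e,
    phiB_stab hP hF haj (mem_Gk_succ.1 ha).2.1 (mul_mem (Sx_le_Gk le_rfl ht) hg) hc, phi0_Gk hP ha,
    phi1_eq hP hF hg ht hc, ← mul_assoc, ← mul_assoc, ((commute_sh hP ha ht).inv_right).eq]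

theorem phi1_qq {g : SpG F n} (hg : g ∈ Gk (j : ℕ)) {y : Vec F n} (hy : InV ((j : ℕ) + 1) y) (z : F)
    (h : Off j g) (h' : Off j (qq (ee j) y z * g)) :
    phi1 A P' j (qq (ee j) y z * g) = qh A P' j y z * phi1 A P' j g := by
  by_cases h0 : y = 0
  · subst h0
    rw [qh_zero, phi1_sx hP hF hg h (qq_ee_mem_Sx j z)]
  have hlt : (j : ℕ) + 1 < n := by
    by_contra hcon
    exact h0 (eq_zero_of_inV (by omega) hy)
  set i : Fin n := ⟨(j : ℕ) + 1, hlt⟩
  have hiV : InV ((j : ℕ) + 1) (ee i : Vec F n) := inV_ee le_rfl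
  obtain ⟨a, ha, hay⟩ := exists_act_eq hiV (ee_ne_zero i) hy h0
  have haj : a ∈ Gk (j : ℕ) := Gk_mono (Nat.le_succ _) ha
  -- the case `y = ee i`
  suffices key : ∀ f ∈ Gk (j : ℕ), Off j f → Off j (qq (ee j) (ee i) z * f) →
      phi1 A P' j (qq (ee j) (ee i) z * f) = A.mh j (qq (ee j) (ee i) z) * phi1 A P' j f by
    have e : qq (ee j) y z * g = a * (qq (ee j) (ee i) z * (a⁻¹ * g)) := by
      rw [← mul_assoc, conj_qq_ee ha hiV z, hay]; group
    have hf : Off j (a⁻¹ * g) := h.gk (inv_mem ha)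
    have hqf : Off j (qq (ee j) (ee i) z * (a⁻¹ * g)) := by
      have := h'.gk (inv_mem ha)
      rwa [e, inv_mul_cancel_left] at this
    rw [e, phi1_gk hP hF (mul_mem (qq_mem_Gk' hiV z) (mul_mem (inv_mem haj) hg)) hqf ha,
      key _ (mul_mem (inv_mem haj) hg) hf hqf, phi1_gk hP hF hg h (inv_mem ha), hP.hom.inv ha,
      qh_eq hP (i := i) rfl ha hay z]
    group
  intro f hfG hf hf'
  set m := qq (ee j) (ee i : Vec F n) z with hm
  have hmM : m ∈ Mx j := by simpa [hm] using qq_mem_Mx (i := j) (i' := i) rfl 1 z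
  have hme : act m (ee j) = ee j := hmM.1 j
  have hmG : m ∈ Gk (j : ℕ) := Mx_le_Gk le_rfl hmM
  by_cases hc : act f (ee j) (Sum.inr j) = 0
  swap
  · have hc1 : act (1 * f) (ee j) (Sum.inr j) ≠ 0 := by rwa [one_mul]
    have hc2 : act (1 * (m * f)) (ee j) (Sum.inr j) ≠ 0 := by rwa [one_mul, act_mul, inr_act hme]
    rw [phi1_eq hP hF (mul_mem hmG hfG) (one_mem _) hc2, phi1_eq hP hF hfG (one_mem _) hc1, (A.homS j).one,
      inv_one, one_mul, one_mul, one_mul, one_mul, phiB_stab hP hF hmG hme hfG hc, phi0_Mx hP hF hlt hmM]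
  · have ha' := hf.resolve_right (not_not.2 hc)
    have hc' : act (m * f) (ee j) (Sum.inr j) = 0 := by rw [act_mul, inr_act hme, hc]
    have hb' := hf'.resolve_right (not_not.2 hc')
    obtain ⟨a₀, ha0, ha1⟩ := hF
    obtain ⟨t', ht0, ht1⟩ : ∃ t' : F, t' ≠ 0 ∧ -1 + t' * (1 - z) ≠ 0 := by
      by_cases hz : z = 0
      · exact ⟨a₀, ha0, fun e => ha1 (by rw [hz] at e; linear_combination e)⟩
      · exact ⟨1, one_ne_zero, fun e => hz (by linear_combination -e)⟩
    set s := sl j (1 : F) 0 1 1 with hs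
    set s' := sl j (1 : F) 0 t' 1 with hs'
    have hsS : s ∈ Sx j := sl_mem j (by ring)
    have hs'S : s' ∈ Sx j := sl_mem j (by ring)
    have hsf : act (s * f) (ee j) (Sum.inr j) ≠ 0 := by
      rw [act_mul, hs, act_sl j (by ring)]
      simpa [hc] using ha'
    have hs'f : act (s' * (m * f)) (ee j) (Sum.inr j) ≠ 0 := by
      rw [act_mul, hs', act_sl j (by ring)]
      simpa [hc'] using mul_ne_zero ht0 hb'
    rw [phi1_eq hP ⟨a₀, ha0, ha1⟩ (mul_mem hmG hfG) hs'S hs'f, phi1_eq hP ⟨a₀, ha0, ha1⟩ hfG hsS hsf]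
    set k := s' * m * s⁻¹ with hk
    have hkK : k ∈ Mx j ⊔ Sx j := mul_mem (mul_mem (Subgroup.mem_sup_right hs'S) (Subgroup.mem_sup_left hmM))
      (Subgroup.mem_sup_right (inv_mem hsS))
    have hke : act k (ee j) (Sum.inr j) ≠ 0 := by
      have e1 : act s⁻¹ (ee j) = ee j - ff j := by
        refine act_inv_eq ?_
        rw [hs, act_sl j (by ring)]
        simp
      rw [hk, act_mul, e1, act_mul, act_sub, hme, hm, act_qq_ff hiV, hs', act_sl j (by ring)]
      have hij : j ≠ i := fun e => by simpa [i] using congrArg Fin.val e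
      convert ht1 using 1
      simp [hij]
      try ring
    obtain ⟨b, z2, t2, ht2, m2, hm2, hk2, -⟩ := cell (i := i) rfl hkK hke
    have hm1 : qq (ee j) (b • ee i) z2 ∈ Mx j := qq_mem_Mx rfl b z2
    have hm1e : act (qq (ee j) (b • ee i) z2) (ee j) = ee j := hm1.1 j
    have hsfG : s * f ∈ Gk (j : ℕ) := mul_mem (Sx_le_Gk le_rfl hsS) hfG
    have hm2c : act (m2 * (s * f)) (ee j) (Sum.inr j) ≠ 0 := by rwa [act_mul, inr_act (hm2.1 j)]
    have e : s' * (m * f) = qq (ee j) (b • ee i) z2 * (t2 * (m2 * (s * f))) := by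
      have : s' * (m * f) = k * (s * f) := by rw [hk]; group
      rw [this, hk2]
      group
    rw [e, act_mul, inr_act hm1e] at hs'f
    rw [e, phiB_stab hP ⟨a₀, ha0, ha1⟩ (Mx_le_Gk le_rfl hm1) hm1e
        (mul_mem (Sx_le_Gk le_rfl ht2) (mul_mem (Mx_le_Gk le_rfl hm2) hsfG)) hs'f,
      phiB_Sx hP ⟨a₀, ha0, ha1⟩ ht2 (mul_mem (Mx_le_Gk le_rfl hm2) hsfG) hm2c hs'f,
      phiB_stab hP ⟨a₀, ha0, ha1⟩ (Mx_le_Gk le_rfl hm2) (hm2.1 j) hsfG hsf, phi0_Mx hP ⟨a₀, ha0, ha1⟩ hlt hm1,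
      phi0_Mx hP ⟨a₀, ha0, ha1⟩ hlt hm2]
    obtain ⟨Ψ, hΨ, hM, hS⟩ := A.ms j j hlt
    have key : A.mh j (qq (ee j) (b • ee i) z2) * A.sh j t2 * A.mh j m2 =
        A.sh j s' * A.mh j m * (A.sh j s)⁻¹ := by
      have a1 := Subgroup.mem_sup_left (T := Sx j) hm1
      have a2 := Subgroup.mem_sup_right (S := Mx j) ht2
      have a3 := Subgroup.mem_sup_left (T := Sx j) hm2
      have b1 := Subgroup.mem_sup_right (S := Mx j) hs'S
      have b2 := Subgroup.mem_sup_left (T := Sx j) hmM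
      have b3 := Subgroup.mem_sup_right (S := Mx j) (inv_mem hsS)
      rw [← (A.homS j).inv hsS, ← hM _ hm1, ← hS _ ht2, ← hM _ hm2, ← hS _ hs'S, ← hM _ hmM,
        ← hS _ (inv_mem hsS), ← hΨ _ a1 _ a2, ← hΨ _ (mul_mem a1 a2) _ a3, ← hΨ _ b1 _ b2,
        ← hΨ _ (mul_mem b1 b2) _ b3, ← hk2]
    calc (A.sh j s')⁻¹ * (A.mh j (qq (ee j) (b • ee i) z2) * (A.sh j t2 * (A.mh j m2 * phiB A P' j (s * f))))
        = (A.sh j s')⁻¹ * (A.mh j (qq (ee j) (b • ee i) z2) * A.sh j t2 * A.mh j m2) * phiB A P' j (s * f) := by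
          group
      _ = (A.sh j s')⁻¹ * (A.sh j s' * A.mh j m * (A.sh j s)⁻¹) * phiB A P' j (s * f) := by rw [key]
      _ = _ := by group

theorem phi_eq {g : SpG F n} (hg : g ∈ Gk (j : ℕ)) {y : Vec F n} (hy : InV ((j : ℕ) + 1) y) (z : F)
    (h : Off j (qq (ee j) y z * g)) :
    phi A P' j g = (qh A P' j y z)⁻¹ * phi1 A P' j (qq (ee j) y z * g) := by
  unfold phi
  rw [dif_pos hg]
  obtain ⟨hy0, h0⟩ := (exists_off hg).choose_spec
  set y0 := (exists_off hg).choose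
  have e : qq (ee j) y z * g = qq (ee j) (y - y0) (z - om (y - y0) y0) * (qq (ee j) y0 0 * g) := by
    rw [← mul_assoc, qq_mul _ _ (om_ee_inV (hy.sub hy0)) (om_ee_inV hy0), sub_add_cancel, add_zero,
      sub_add_cancel]
  rw [e] at h ⊢
  rw [phi1_qq hP hF (mul_mem (qq_mem_Gk' hy0 0) hg) (hy.sub hy0) _ h0 h]
  have : qh A P' j y z = qh A P' j (y - y0) (z - om (y - y0) y0) * qh A P' j y0 0 := by
    rw [qh_mul hP hF (hy.sub hy0) hy0, sub_add_cancel, add_zero, sub_add_cancel]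
  rw [this]
  group

theorem phi_of_off {g : SpG F n} (hg : g ∈ Gk (j : ℕ)) (h : Off j g) : phi A P' j g = phi1 A P' j g := by
  rw [phi_eq hP hF hg (inV_zero _) 0 (by rwa [qq_zero, one_mul]), qh_zero, qq_zero, (A.homS j).one, inv_one,
    one_mul, one_mul]

theorem phi_qq {g : SpG F n} (hg : g ∈ Gk (j : ℕ)) {y : Vec F n} (hy : InV ((j : ℕ) + 1) y) (z : F) :
    phi A P' j (qq (ee j) y z * g) = qh A P' j y z * phi A P' j g := by
  have hgy := mul_mem (qq_mem_Gk' hy z) hg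
  obtain ⟨u, hu, h⟩ := exists_off hgy
  have e : qq (ee j) u 0 * (qq (ee j) y z * g) = qq (ee j) (u + y) (z + om u y) * g := by
    rw [← mul_assoc, qq_mul _ _ (om_ee_inV hu) (om_ee_inV hy), zero_add]
  rw [phi_eq hP hF hgy hu 0 h, e, phi_eq hP hF hg (hu.add hy) (z + om u y) (e ▸ h)]
  have : qh A P' j (u + y) (z + om u y) = qh A P' j u 0 * qh A P' j y z := by
    rw [qh_mul hP hF hu hy, zero_add]
  rw [this]
  group

theorem phi_gk {g a : SpG F n} (hg : g ∈ Gk (j : ℕ)) (ha : a ∈ Gk ((j : ℕ) + 1)) :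
    phi A P' j (a * g) = P' a * phi A P' j g := by
  have haj : a ∈ Gk (j : ℕ) := Gk_mono (Nat.le_succ _) ha
  obtain ⟨u, hu, h⟩ := exists_off hg
  have hu' := hu.image ha
  have e : qq (ee j) (act a u) 0 * (a * g) = a * (qq (ee j) u 0 * g) := by
    rw [← mul_assoc, ← conj_qq_ee ha hu 0, mul_assoc]
  rw [phi_eq hP hF (mul_mem haj hg) hu' 0 (e ▸ h.gk ha), e, phi1_gk hP hF (mul_mem (qq_mem_Gk' hu 0) hg) h ha,
    phi_eq hP hF hg hu 0 h, qh_conj hP ha hu]
  group

theorem phi_mx (hlt : (j : ℕ) + 1 < n) {g m : SpG F n} (hg : g ∈ Gk (j : ℕ)) (hm : m ∈ Mx j) :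
    phi A P' j (m * g) = A.mh j m * phi A P' j g := by
  rw [← phi0_Mx hP hF hlt hm]
  obtain ⟨x, z, a, hx, ha, rfl⟩ := decomp_stab (Mx_le_Gk le_rfl hm) (hm.1 j)
  rw [phi0_eq A hx z ha, mul_assoc, phi_qq hP hF (mul_mem (Gk_mono (Nat.le_succ _) ha) hg) hx,
    phi_gk hP hF hg ha, mul_assoc]

theorem phi_sx_of_off {g s : SpG F n} (hg : g ∈ Gk (j : ℕ)) (h : Off j g) (hs : s ∈ Sx j) :
    phi A P' j (s * g) = A.sh j s * phi A P' j g := by
  rw [phi_of_off hP hF (mul_mem (Sx_le_Gk le_rfl hs) hg) (h.sx hs), phi_of_off hP hF hg h,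
    phi1_sx hP hF hg h hs]

theorem phi_sx_origin {i : Fin n} (hi : (i : ℕ) = (j : ℕ) + 1) {f s : SpG F n} (hs : s ∈ Sx j)
    (hf : f ∈ Gk (j : ℕ)) (hfe : act f (ee j) = ff i) :
    phi A P' j (s * f) = A.sh j s * phi A P' j f := by
  have hlt : (j : ℕ) + 1 < n := hi ▸ i.2
  have hij : j ≠ i := fun e => by rw [← e] at hi; omega
  have hiV : InV ((j : ℕ) + 1) (ee i : Vec F n) := inV_ee hi.ge
  have hmem : ∀ t : F, qq (ee j) (t • ee i : Vec F n) 0 ∈ Mx j := fun t => qq_mem_Mx hi t 0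
  have hqv : ∀ (t : F) (v : Vec F n), act (qq (ee j) (t • ee i : Vec F n) 0) v =
      v + (t * v (Sum.inr j)) • ee i + (t * v (Sum.inr i)) • ee j := fun t v => by
    rw [act_qq 0 (om_ee_inV (hiV.smul t))]
    simp [om_smul_left, smul_smul, mul_comm]
  set al := act s (ee j) (Sum.inl j) with hal
  set c := act s (ee j) (Sum.inr j) with hcd
  have hse : act s (ee j) = al • ee j + c • ff j := Sx_act_ee hs
  set w := sl j (0 : F) (-1) 1 0 with hw
  have hwS : w ∈ Sx j := sl_mem j (by ring)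
  have hwv : ∀ v : Vec F n, act w v = v + (-v (Sum.inl j) - v (Sum.inr j)) • ee j
      + (v (Sum.inl j) - v (Sum.inr j)) • ff j := fun v => by
    rw [hw, act_sl j (by ring)]
    congr 2 <;> ring_nf
  set m := qq (ee j) ((1 : F) • ee i : Vec F n) 0 with hm
  set m1 := qq (ee j) ((1 - al) • ee i : Vec F n) 0 with hm1
  set m2 := qq (ee j) ((-c) • ee i : Vec F n) 0 with hm2
  set P := w * m2 * w⁻¹ * m1 * s * m * s⁻¹ with hPdef
  have hPN : P ∈ Nx j := by
    refine sup_le_Nx j ?_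
    have hS' := fun {t : SpG F n} (ht : t ∈ Sx j) => Subgroup.mem_sup_right (S := Mx j) ht
    have hM' := fun (t : F) => Subgroup.mem_sup_left (T := Sx j) (hmem t)
    exact mul_mem (mul_mem (mul_mem (mul_mem (mul_mem (mul_mem (hS' hwS) (hM' _)) (hS' (inv_mem hwS))) (hM' _))
      (hS' hs)) (hM' _)) (hS' (inv_mem hs))
  have hsi : s⁻¹ ∈ Sx j := inv_mem hs
  have hsu : act s⁻¹ (ee j) (Sum.inr j) = -c := by
    rw [← om_ee_left j (act s⁻¹ (ee j)), ← om_act s, act_act_inv, hse]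
    simp
  have hwi : ∀ v v' : Vec F n, act w v' = v → act w⁻¹ v = v' := fun v v' h => act_inv_eq h
  have hsx : act s (ee i) = ee i := (hs i hij.symm).1
  have hwx : act w (ee i) = ee i := (hwS i hij.symm).1
  have hPe : act P (ee j) = ee j := by
    have e1 : act m (act s⁻¹ (ee j)) = act s⁻¹ (ee j) + (-c) • ee i := by
      rw [hm, hqv, hsu, one_mul, one_mul]
      have : act s⁻¹ (ee j) (Sum.inr i) = 0 := by
        rw [Sx_act_ee hsi]; simp [hij.symm]
      rw [this, zero_smul, add_zero]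
    rw [hPdef, act_mul, act_mul, act_mul, act_mul, act_mul, act_mul, e1, act_add, act_smul, hsx, act_act_inv]
    have e2 : act m1 (ee j + (-c) • ee i) = ee j + (-c) • ee i := by
      rw [hm1, hqv]; simp [hij.symm]
    have e3 : act w⁻¹ (ee j + (-c) • ee i) = -ff j + (-c) • ee i := by
      refine hwi _ _ ?_
      rw [act_add, act_smul, hwx, hwv]
      simp
    have e4 : act m2 (-ff j + (-c) • ee i) = -ff j := by
      rw [hm2, hqv]
      simp [hij, hij.symm]
    rw [e2, e3, e4, act_neg, hwv]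
    simp
  have hPM : P ∈ Mx j := mem_Mx_of_Nx hPN hPe
  have esplit : s * f = P⁻¹ * (w * (m2 * (w⁻¹ * (m1 * (s * (m * f)))))) := by rw [hPdef]; group
  have gS : ∀ {t : SpG F n}, t ∈ Sx j → t ∈ Gk (j : ℕ) := fun ht => Sx_le_Gk le_rfl ht
  have gM : ∀ t : F, qq (ee j) (t • ee i : Vec F n) 0 ∈ Gk (j : ℕ) := fun t => Mx_le_Gk le_rfl (hmem t)
  have f1 : act (m * f) (ee j) = ff i + ee j := by
    rw [act_mul, hfe, hm, hqv]; simp [hij]
  have f2 : act (s * (m * f)) (ee j) = ff i + (al • ee j + c • ff j) := by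
    rw [act_mul, f1, act_add, hse, (hs i hij.symm).2]
  have f3 : act (m1 * (s * (m * f))) (ee j) = ff i + ee j + c • ff j + ((1 - al) * c) • ee i := by
    rw [act_mul, f2, hm1, hqv]
    simp [hij, hij.symm]
    module
  have o1 : Off j (m * f) := .inl (by rw [f1]; simp)
  have o3 : Off j (m1 * (s * (m * f))) := .inl (by rw [f3]; simp [hij])
  have o5 : Off j (m2 * (w⁻¹ * (m1 * (s * (m * f))))) := by
    have e : act (w⁻¹ * (m1 * (s * (m * f)))) (ee j) = ff i + c • ee j - ff j + ((1 - al) * c) • ee i := by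
      rw [act_mul, f3]
      refine hwi _ _ ?_
      rw [hwv]
      simp [hij]
      module
    refine .inr ?_
    rw [act_mul, inr_act ((hmem _).1 j), e]
    simp [hij, hij.symm]
  have g1 := mul_mem (gM 1) hf
  have g3 := mul_mem (gM (1 - al)) (mul_mem (gS hs) g1)
  have g5 := mul_mem (gM (-c)) (mul_mem (gS (inv_mem hwS)) g3)
  rw [esplit, phi_mx hP hF hlt (mul_mem (gS hwS) g5) (inv_mem hPM), phi_sx_of_off hP hF g5 o5 hwS,
    phi_mx hP hF hlt (mul_mem (gS (inv_mem hwS)) g3) (hmem _), phi_sx_of_off hP hF g3 o3 (inv_mem hwS),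
    phi_mx hP hF hlt (mul_mem (gS hs) g1) (hmem _), phi_sx_of_off hP hF g1 o1 hs, phi_mx hP hF hlt hf (hmem _)]
  obtain ⟨Ψ, hΨ, hM, hS⟩ := A.ms j j hlt
  have key : A.mh j P⁻¹ * A.sh j w * A.mh j m2 * A.sh j w⁻¹ * A.mh j m1 * A.sh j s * A.mh j m = A.sh j s := by
    have a0 := Subgroup.mem_sup_left (T := Sx j) (inv_mem hPM)
    have a1 := Subgroup.mem_sup_right (S := Mx j) hwS
    have a2 := Subgroup.mem_sup_left (T := Sx j) (hmem (-c))
    have a3 := Subgroup.mem_sup_right (S := Mx j) (inv_mem hwS)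
    have a4 := Subgroup.mem_sup_left (T := Sx j) (hmem (1 - al))
    have a5 := Subgroup.mem_sup_right (S := Mx j) hs
    have a6 := Subgroup.mem_sup_left (T := Sx j) (hmem 1)
    have b1 := mul_mem a0 a1
    have b2 := mul_mem b1 a2
    have b3 := mul_mem b2 a3
    have b4 := mul_mem b3 a4
    have b5 := mul_mem b4 a5
    rw [← hM _ (inv_mem hPM), ← hS _ hwS, ← hM _ (hmem (-c)), ← hS _ (inv_mem hwS), ← hM _ (hmem (1 - al)),
      ← hS _ hs, ← hM _ (hmem 1), ← hm, ← hm1, ← hm2, ← hΨ _ a0 _ a1, ← hΨ _ b1 _ a2, ← hΨ _ b2 _ a3,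
      ← hΨ _ b3 _ a4, ← hΨ _ b4 _ a5, ← hΨ _ b5 _ a6]
    congr 1
    rw [hPdef, hm, hm1, hm2]
    group
  conv_rhs => rw [← key]
  simp only [← hm, ← hm1, ← hm2, mul_assoc]


theorem phi_sx {g s : SpG F n} (hg : g ∈ Gk (j : ℕ)) (hs : s ∈ Sx j) :
    phi A P' j (s * g) = A.sh j s * phi A P' j g := by
  by_cases hoff : Off j g
  · exact phi_sx_of_off hP hF hg hoff hs
  simp only [Off, not_or, not_not] at hoff
  set v := act g (ee j) with hv
  have hvV : InV (j : ℕ) v := (inV_ee le_rfl).image hg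
  have hxv : xs j v = v := by simp [xs, hoff.1, hoff.2]
  have hvV1 : InV ((j : ℕ) + 1) v := hxv ▸ xs_inV hvV
  have h0 : v ≠ 0 := fun e => by
    refine ee_ne_zero (F := F) j ?_
    rw [← act_inv_act g (ee j), ← hv, e, act_zero]
  have hlt : (j : ℕ) + 1 < n := by
    by_contra hcon
    exact h0 (eq_zero_of_inV (by omega) hvV1)
  set i : Fin n := ⟨(j : ℕ) + 1, hlt⟩ with hidef
  have hij : j ≠ i := fun e => by simpa [hidef] using congrArg Fin.val e
  have hiV : InV ((j : ℕ) + 1) (ee i : Vec F n) := inV_ee le_rfl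
  have hfV : InV ((j : ℕ) + 1) (ff i : Vec F n) := inV_ff le_rfl
  obtain ⟨a, ha, hav⟩ := exists_act_eq hvV1 h0 hfV (fun e => by simpa using congrFun e (Sum.inr i))
  have haj : a ∈ Gk (j : ℕ) := Gk_mono (Nat.le_succ _) ha
  have h1 := phi_sx_origin hP hF (i := i) rfl hs (mul_mem haj hg) (by rw [act_mul, ← hv, hav])
  rw [← mul_assoc, commute_Sx_Gk hs ha, mul_assoc,
    phi_gk hP hF (mul_mem (Sx_le_Gk le_rfl hs) hg) ha, phi_gk hP hF hg ha, ← mul_assoc,
    ← (commute_sh hP ha hs).eq, mul_assoc] at h1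
  exact mul_left_cancel h1

end Cfsg.Agent.Lib.SpAmalgam
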