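import Cfsg.Agent.Lib.SpAmalgam.Basic

/-!
# The chain of subgroups fixing the first hyperbolic planes

Owner: helper64.
-/

set_option autoImplicit false
set_option linter.unusedSectionVars false

namespace Cfsg.Agent.Lib.SpAmalgam

variable {F : Type*} [Field F] {n : ℕ}

/-- The subgroup fixing the basis vectors of the planes before `k`. -/
def Gk (k : ℕ) : Subgroup (SpG F n) where
  carrier := {g | ∀ l : Fin n, (l : ℕ) < k → act g (ee l) = ee l ∧ act g (ff l) = ff l}
  one_mem' := fun _ _ => ⟨act_one _, act_one _⟩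
  mul_mem' := fun {g h} hg hh l hl => ⟨by rw [act_mul, (hh l hl).1, (hg l hl).1],
    by rw [act_mul, (hh l hl).2, (hg l hl).2]⟩
  inv_mem' := fun {g} hg l hl => ⟨act_inv_eq (hg l hl).1, act_inv_eq (hg l hl).2⟩

/-- The copy of `SL₂` on the `j`-th plane. -/
def Sx (j : Fin n) : Subgroup (SpG F n) where
  carrier := {g | ∀ l : Fin n, l ≠ j → act g (ee l) = ee l ∧ act g (ff l) = ff l}
  one_mem' := fun _ _ => ⟨act_one _, act_one _⟩
  mul_mem' := fun {g h} hg hh l hl => ⟨by rw [act_mul, (hh l hl).1, (hg l hl).1],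
    by rw [act_mul, (hh l hl).2, (hg l hl).2]⟩
  inv_mem' := fun {g} hg l hl => ⟨act_inv_eq (hg l hl).1, act_inv_eq (hg l hl).2⟩

/-- The abelian group of the planes `i`, `i + 1`. -/
def Mx (i : Fin n) : Subgroup (SpG F n) where
  carrier := {g | (∀ l : Fin n, act g (ee l) = ee l) ∧
    ∀ l : Fin n, (l : ℕ) ≠ i → (l : ℕ) ≠ (i : ℕ) + 1 → act g (ff l) = ff l}
  one_mem' := ⟨fun _ => act_one _, fun _ _ _ => act_one _⟩
  mul_mem' := fun {g h} hg hh => ⟨fun l => by rw [act_mul, hh.1, hg.1],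
    fun l h1 h2 => by rw [act_mul, hh.2 l h1 h2, hg.2 l h1 h2]⟩
  inv_mem' := fun {g} hg => ⟨fun l => act_inv_eq (hg.1 l), fun l h1 h2 => act_inv_eq (hg.2 l h1 h2)⟩

/-- Vectors supported on the planes from `k` on. -/
def InV (k : ℕ) (v : Vec F n) : Prop := ∀ l : Fin n, (l : ℕ) < k → v (Sum.inl l) = 0 ∧ v (Sum.inr l) = 0

theorem inV_ee {k : ℕ} {j : Fin n} (h : k ≤ j) : InV k (ee j : Vec F n) := fun l hl => by
  have : l ≠ j := fun e => by rw [e] at hl; omega
  simp [this]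

theorem inV_ff {k : ℕ} {j : Fin n} (h : k ≤ j) : InV k (ff j : Vec F n) := fun l hl => by
  have : l ≠ j := fun e => by rw [e] at hl; omega
  simp [this]

theorem InV.add {k : ℕ} {u v : Vec F n} (hu : InV k u) (hv : InV k v) : InV k (u + v) := fun l hl => by
  simp [hu l hl, hv l hl]

theorem InV.sub {k : ℕ} {u v : Vec F n} (hu : InV k u) (hv : InV k v) : InV k (u - v) := fun l hl => by
  simp [hu l hl, hv l hl]

theorem InV.smul {k : ℕ} {v : Vec F n} (c : F) (hv : InV k v) : InV k (c • v) := fun l hl => by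
  simp [hv l hl]

theorem InV.neg {k : ℕ} {v : Vec F n} (hv : InV k v) : InV k (-v) := fun l hl => by simp [hv l hl]

theorem inV_zero (k : ℕ) : InV k (0 : Vec F n) := fun _ _ => ⟨rfl, rfl⟩

theorem InV.mono {k k' : ℕ} {v : Vec F n} (h : k ≤ k') (hv : InV k' v) : InV k v := fun l hl =>
  hv l (lt_of_lt_of_le hl h)

theorem inV_zero_index (v : Vec F n) : InV 0 v := fun l hl => absurd hl (Nat.not_lt_zero _)

theorem InV.image {k : ℕ} {g : SpG F n} {v : Vec F n} (hg : g ∈ Gk k) (hv : InV k v) : InV k (act g v) :=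
  fun l hl => by
  constructor
  · rw [← om_ff_right l (act g v), ← (hg l hl).2, om_act, om_ff_right, (hv l hl).1]
  · rw [← om_ee_left l (act g v), ← (hg l hl).1, om_act, om_ee_left, (hv l hl).2]

theorem Gk_mono {k k' : ℕ} (h : k ≤ k') : Gk (F := F) (n := n) k' ≤ Gk k := fun _ hg l hl =>
  hg l (lt_of_lt_of_le hl h)

theorem mem_Gk_succ {j : Fin n} {g : SpG F n} :
    g ∈ Gk ((j : ℕ) + 1) ↔ g ∈ Gk (j : ℕ) ∧ act g (ee j) = ee j ∧ act g (ff j) = ff j := by
  refine ⟨fun h => ⟨Gk_mono (Nat.le_succ _) h, h j (Nat.lt_succ_self _)⟩, fun h l hl => ?_⟩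
  rcases eq_or_lt_of_le (Nat.lt_succ_iff.1 hl) with e | e
  · exact Fin.ext e ▸ h.2
  · exact h.1 l e

theorem eq_one_of_fix {g : SpG F n} (h : ∀ l : Fin n, act g (ee l) = ee l ∧ act g (ff l) = ff l) : g = 1 := by
  refine Subtype.ext (Matrix.ext fun i j => ?_)
  rcases j with j | j
  · have := congrFun (h j).1 i
    simp only [act, ee, Matrix.mulVec_single_one, Matrix.col_apply] at this
    rw [this, Submonoid.coe_one, Matrix.one_apply, Pi.single_apply]
  · have := congrFun (h j).2 i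
    simp only [act, ff, Matrix.mulVec_single_one, Matrix.col_apply] at this
    rw [this, Submonoid.coe_one, Matrix.one_apply, Pi.single_apply]

theorem Gk_eq_bot {k : ℕ} (h : n ≤ k) : Gk (F := F) (n := n) k = ⊥ :=
  (Subgroup.eq_bot_iff_forall _).2 fun _ hg => eq_one_of_fix fun l => hg l (lt_of_lt_of_le l.2 h)

theorem qq_mem_Gk {k : ℕ} {e x : Vec F n} (z : F) (he : InV k e) (hx : InV k x) (h : om e x = 0) :
    qq e x z ∈ Gk k := fun l hl => by
  constructor <;> rw [act_qq z h] <;> simp [he l hl, hx l hl]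

theorem Sx_le_Gk {j : Fin n} {k : ℕ} (h : k ≤ j) : Sx (F := F) j ≤ Gk k := fun _ hg l hl =>
  hg l fun e => by rw [e] at hl; omega

theorem Mx_le_Gk {i : Fin n} {k : ℕ} (h : k ≤ i) : Mx (F := F) i ≤ Gk k := fun _ hg l hl =>
  ⟨hg.1 l, hg.2 l (by omega) (by omega)⟩

theorem sl_mem (j : Fin n) {a b c d : F} (h : a * d - b * c = 1) : sl j a b c d ∈ Sx j := fun l hl => by
  constructor <;> rw [act_sl j h] <;> simp [hl, Ne.symm hl]

theorem qq_ee_mem_Sx (j : Fin n) (z : F) : qq (ee j) 0 z ∈ Sx (F := F) j := fun l hl => by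
  constructor <;> rw [act_qq z (om_zero_right _)] <;> simp [om_zero_left, hl]

theorem qq_mem_Mx {i i' : Fin n} (hi : (i' : ℕ) = (i : ℕ) + 1) (t z : F) :
    qq (ee i) (t • ee i') z ∈ Mx (F := F) i := by
  have h : om (ee i) (t • ee i' : Vec F n) = 0 := by simp
  refine ⟨fun l => ?_, fun l h1 h2 => ?_⟩ <;> rw [act_qq z h]
  · simp
  · have e1 : l ≠ i := fun e => h1 (congrArg Fin.val e)
    have e2 : l ≠ i' := fun e => h2 ((congrArg Fin.val e).trans hi)
    simp [e1, e2]

theorem plane_eq {j : Fin n} {v : Vec F n} (h : ∀ l : Fin n, l ≠ j → v (Sum.inl l) = 0 ∧ v (Sum.inr l) = 0) :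
    v = v (Sum.inl j) • ee j + v (Sum.inr j) • ff j := by
  funext i
  rcases i with i | i <;> by_cases e : i = j
  · subst e; simp
  · simp [(h i e).1, e]
  · subst e; simp
  · simp [(h i e).2, e]

theorem Sx_plane {j : Fin n} {s : SpG F n} (hs : s ∈ Sx j) {v : Vec F n}
    (h : ∀ l : Fin n, l ≠ j → v (Sum.inl l) = 0 ∧ v (Sum.inr l) = 0) :
    ∀ l : Fin n, l ≠ j → act s v (Sum.inl l) = 0 ∧ act s v (Sum.inr l) = 0 := fun l hl => by
  constructor
  · rw [← om_ff_right l (act s v), ← (hs l hl).2, om_act, om_ff_right, (h l hl).1]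
  · rw [← om_ee_left l (act s v), ← (hs l hl).1, om_act, om_ee_left, (h l hl).2]

theorem Sx_act_ee {j : Fin n} {s : SpG F n} (hs : s ∈ Sx j) :
    act s (ee j) = act s (ee j) (Sum.inl j) • ee j + act s (ee j) (Sum.inr j) • ff j :=
  plane_eq (Sx_plane hs fun l hl => by simp [hl])

theorem Sx_act_ff {j : Fin n} {s : SpG F n} (hs : s ∈ Sx j) :
    act s (ff j) = act s (ff j) (Sum.inl j) • ee j + act s (ff j) (Sum.inr j) • ff j :=
  plane_eq (Sx_plane hs fun l hl => by simp [hl])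

/-- Elements of the `j`-th `SL₂` fix every vector vanishing on the `j`-th plane. -/
theorem Sx_act_off {j : Fin n} {s : SpG F n} (hs : s ∈ Sx j) {v : Vec F n} (h1 : v (Sum.inl j) = 0)
    (h2 : v (Sum.inr j) = 0) : act s v = v := by
  funext i
  rcases i with i | i <;> by_cases e : i = j
  · subst e
    rw [← om_ff_right i (act s v), ← act_act_inv s (ff i), om_act, Sx_act_ff (inv_mem hs), om_add_right, om_smul_right,
      om_smul_right, om_ee_right, om_ff_right, h1, h2]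
    simp
  · rw [← om_ff_right i (act s v), ← (hs i e).2, om_act, om_ff_right]
  · subst e
    rw [← om_ee_left i (act s v), ← act_act_inv s (ee i), om_act, Sx_act_ee (inv_mem hs), om_add_left, om_smul_left,
      om_smul_left, om_ee_left, om_ff_left, h1, h2]
    simp
  · rw [← om_ee_left i (act s v), ← (hs i e).1, om_act, om_ee_left]

theorem Gk_split {j : Fin n} {v : Vec F n} (hv : InV (j : ℕ) v) :
    InV ((j : ℕ) + 1) (v - v (Sum.inl j) • ee j - v (Sum.inr j) • ff j) := fun l hl => by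
  rcases eq_or_lt_of_le (Nat.lt_succ_iff.1 hl) with e | e
  · obtain rfl := Fin.ext e
    simp
  · have hne : l ≠ j := fun h => by rw [h] at e; omega
    simp [hv l e, hne]

theorem exists_om_ne {k : ℕ} {x : Vec F n} (hx : InV k x) (h0 : x ≠ 0) : ∃ u, InV k u ∧ om x u ≠ 0 := by
  obtain ⟨i, hi⟩ := Function.ne_iff.1 h0
  rcases i with l | l
  · exact ⟨ff l, inV_ff (by by_contra h; exact hi (hx l (by omega)).1), by simpa using hi⟩
  · exact ⟨ee l, inV_ee (by by_contra h; exact hi (hx l (by omega)).2), by simpa using hi⟩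

theorem exists_om_ne₂ {k : ℕ} {x y : Vec F n} (hx : InV k x) (h0 : x ≠ 0) (hy : InV k y) (h1 : y ≠ 0) :
    ∃ u, InV k u ∧ om x u ≠ 0 ∧ om y u ≠ 0 := by
  obtain ⟨u, hu, hxu⟩ := exists_om_ne hx h0
  obtain ⟨w, hw, hyw⟩ := exists_om_ne hy h1
  by_cases h2 : om y u = 0
  · by_cases h3 : om x w = 0
    · exact ⟨u + w, hu.add hw, by rw [om_add_right, h3, add_zero]; exact hxu,
        by rw [om_add_right, h2, zero_add]; exact hyw⟩
    · exact ⟨w, hw, h3, hyw⟩
  · exact ⟨u, hu, hxu, h2⟩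

theorem exists_transvection {k : ℕ} {x y : Vec F n} (hx : InV k x) (hy : InV k y) (h : om x y ≠ 0) :
    ∃ g ∈ Gk k, act g x = y := by
  refine ⟨qq (y - x) 0 (-(om x y)⁻¹), qq_mem_Gk _ (hy.sub hx) (inV_zero k) (om_zero_right _), ?_⟩
  have h' : om (y - x) x = -om x y := by rw [om_sub_left, om_self, sub_zero, om_swap]
  rw [act_qq _ (om_zero_right _), om_zero_left, h']
  funext i
  simp only [smul_zero, zero_add, Pi.add_apply, Pi.smul_apply, Pi.sub_apply, Pi.zero_apply, smul_eq_mul]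
  rw [neg_mul_neg, inv_mul_cancel₀ h]
  ring

theorem exists_act_eq {k : ℕ} {x y : Vec F n} (hx : InV k x) (h0 : x ≠ 0) (hy : InV k y) (h1 : y ≠ 0) :
    ∃ g ∈ Gk k, act g x = y := by
  obtain ⟨u, hu, h2, h3⟩ := exists_om_ne₂ hx h0 hy h1
  obtain ⟨g, hg, hgx⟩ := exists_transvection hx hu h2
  obtain ⟨g', hg', hgu⟩ := exists_transvection hu hy (by rw [om_swap]; exact neg_ne_zero.2 h3)
  exact ⟨g' * g, mul_mem hg' hg, by rw [act_mul, hgx, hgu]⟩

theorem exists_pair_eq {k : ℕ} {x y x' y' : Vec F n} (hx : InV k x) (hy : InV k y) (hx' : InV k x')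
    (hy' : InV k y') (h : om x y = 1) (h' : om x' y' = 1) :
    ∃ g ∈ Gk k, act g x = x' ∧ act g y = y' := by
  have n0 : ∀ {a b : Vec F n}, om a b = 1 → a ≠ 0 := fun e h0 => by
    rw [h0, om_zero_left] at e; exact zero_ne_one e
  obtain ⟨g, hg, hgx⟩ := exists_act_eq hx (n0 h) hx' (n0 h')
  have h2 : om x' (act g y) = 1 := by rw [← hgx, om_act, h]
  have h3 : om x' (y' - act g y) = 0 := by rw [om_sub_right, h', h2, sub_self]
  refine ⟨qq x' (y' - act g y) (-om (y' - act g y) (act g y)) * g,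
    mul_mem (qq_mem_Gk _ hx' (hy'.sub (hy.image hg)) h3) hg, ?_, ?_⟩
  · rw [act_mul, hgx, act_qq _ h3, om_self, om_swap x' (y' - act g y), h3]
    simp
  · rw [act_mul, act_qq _ h3, h2]
    simp

end Cfsg.Agent.Lib.SpAmalgam
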